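import Cfsg.Agent.DicksonPSL2.Orders
import Cfsg.Agent.SuzukiLocal.GoodTorus
import Cfsg.Agent.SuzukiLocal.Solubilizer

/-!
# Points, tori and solubilizers in `PSL(2, F)`

The points are the cosets of `BP`; `Reps A` says that `A 0`, `A 1` are tori of order
`(q - 1) / d`, `(q + 1) / d` to which every torus is conjugate.
-/

set_option autoImplicit false
set_option linter.unusedSectionVars false

namespace CfsgLib.PSL2Solv

open Matrix CfsgLib.SL2Trace CfsgLib.DicksonPSL2
open CfsgLib.SuzukiLocal (solSet)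
open scoped MatrixGroups

variable {F : Type*} [Field F]

theorem smul_mk_iff {G : Type*} [Group G] (N : Subgroup G) (y g : G) :
    y • (g : G ⧸ N) = (g : G ⧸ N) ↔ g⁻¹ * y * g ∈ N := by
  show ((y * g : G) : G ⧸ N) = g ↔ _
  rw [eq_comm, QuotientGroup.eq, mul_assoc]

theorem conj_smul_fix {G X : Type*} [Group G] [MulAction G X] {k g : G} {p : X}
    (h : g • p = p) : (k * g * k⁻¹) • (k • p) = k • p := by
  rw [mul_smul, mul_smul, inv_smul_smul, h]

/-- The points of the projective line. -/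
abbrev Pt (F : Type*) [Field F] : Type _ := PSL(2, F) ⧸ (BP (F := F))

/-- The point fixed by `BP`. -/
def base : Pt F := ((1 : PSL(2, F)) : Pt F)

theorem smul_base_iff (y : PSL(2, F)) : y • (base : Pt F) = base ↔ y ∈ BP (F := F) := by
  rw [base, smul_mk_iff]; simp

theorem exists_smul_base (p : Pt F) : ∃ g : PSL(2, F), g • base = p := by
  obtain ⟨g, rfl⟩ := QuotientGroup.mk_surjective p
  exact ⟨g, by show ((g * 1 : PSL(2, F)) : Pt F) = g; rw [mul_one]⟩

theorem unique_fixed_u {w : F} (hw : w ≠ 0) {p : Pt F} (h : u w • p = p) : p = base := by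
  obtain ⟨g, rfl⟩ := QuotientGroup.mk_surjective p
  rw [smul_mk_iff] at h
  have hc : g⁻¹ * u w * g⁻¹⁻¹ ∈ BP (F := F) := by rwa [inv_inv]
  obtain ⟨v, hv⟩ := eq_u_of_chi_eq_one hc (by
    by_contra h1
    exact not_isTor_u w ((isTor_conj_iff g⁻¹ (u w)).1 (isTor_of_chi_ne_one hc h1)))
  have := (BP (F := F)).inv_mem (mem_BP_of_conj_u hw hv)
  rw [inv_inv] at this
  rw [base, QuotientGroup.eq, mul_one]
  exact (BP (F := F)).inv_mem this

/-- A non-semisimple element other than `1` fixes exactly one point. -/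
theorem existsUnique_fixed {x : PSL(2, F)} (hx : ¬ IsTor x) (h1 : x ≠ 1) :
    ∃! p : Pt F, x • p = p := by
  obtain ⟨a, w, ha⟩ := exists_conj_u hx
  have hw : w ≠ 0 := by
    rintro rfl
    rw [u_zero, conj_eq_one_iff] at ha
    exact h1 ha
  refine ⟨a⁻¹ • base, ?_, fun p hp => ?_⟩
  · have := conj_smul_fix (k := a⁻¹) ((smul_base_iff (u w)).2 (u_mem_BP w))
    rwa [← ha, show a⁻¹ * (a * x * a⁻¹) * a⁻¹⁻¹ = x by group] at this
  · have := conj_smul_fix (k := a) hp
    rw [ha] at this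
    rw [← unique_fixed_u hw this, inv_smul_smul]

theorem chi_eq_one_of_not_isTor {x : PSL(2, F)} (hxB : x ∈ BP (F := F)) (hx : ¬ IsTor x) :
    ∃ w, x = u w :=
  eq_u_of_chi_eq_one hxB (by_contra fun h => hx (isTor_of_chi_ne_one hxB h))

theorem chi_ne_one_of_isTor {x : PSL(2, F)} (hxB : x ∈ BP (F := F)) (hx : IsTor x) : chi x ≠ 1 :=
  fun h => by
    obtain ⟨w, rfl⟩ := eq_u_of_chi_eq_one hxB h
    exact not_isTor_u w hx

/-- A semisimple element of `BP` fixes exactly one further point. -/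
theorem exists_other_fixed {x : PSL(2, F)} (hxB : x ∈ BP (F := F)) (hx : IsTor x) :
    ∃ r : Pt F, r ≠ base ∧ x • r = r ∧ ∀ p : Pt F, x • p = p → p = base ∨ p = r := by
  obtain ⟨g, rfl⟩ := proj_surjective x
  have hc := (proj_mem_BP_iff g).1 hxB
  have hd := diag_mul hc
  set a := g.1 0 0 with ha
  set b := g.1 0 1 with hb
  have ha2 : 1 - a ^ 2 ≠ 0 := fun h => chi_ne_one_of_isTor hxB hx (by
    rw [chi_proj]; exact (sub_eq_zero.1 h).symm)
  -- action on slopes
  have hslope : ∀ y : PSL(2, F), y ∉ BP (F := F) →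
      proj g * y ∉ BP (F := F) ∧ slope (proj g * y) = a ^ 2 * slope y + a * b := by
    intro y hy
    refine ⟨fun h => hy ?_, ?_⟩
    · have := (BP (F := F)).mul_mem ((BP (F := F)).inv_mem hxB) h
      rwa [inv_mul_cancel_left] at this
    · obtain ⟨k, rfl⟩ := proj_surjective y
      rw [proj_mem_BP_iff] at hy
      rw [← proj_mul, slope_proj, slope_proj, Matrix.SpecialLinearGroup.coe_mul]
      simp only [Matrix.mul_apply, Fin.sum_univ_two, hc, zero_mul, zero_add, ← ha, ← hb]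
      have h11 : g.1 1 1 ≠ 0 := right_ne_zero_of_mul_eq_one hd
      field_simp
      linear_combination (a * k.1 0 0 + b * k.1 1 0) * hd.symm
  have hfix : ∀ y : PSL(2, F), y ∉ BP (F := F) →
      (proj g • (y : Pt F) = (y : Pt F) ↔ slope y = a * b / (1 - a ^ 2)) := by
    intro y hy
    obtain ⟨h1, h2⟩ := hslope y hy
    rw [smul_mk_iff, mul_assoc]
    constructor
    · intro h
      have e : slope (proj g * y) = slope y := by
        conv_lhs => rw [show proj g * y = y * (y⁻¹ * (proj g * y)) by group]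
        exact slope_mul_BP hy h
      rw [h2] at e
      rw [eq_div_iff ha2]
      linear_combination -e
    · intro h
      refine inv_mul_mem_BP_of_slope hy h1 ?_
      rw [h2, h]
      field_simp
      ring
  obtain ⟨k, hk⟩ : ∃ k : SL(2, F), k.1 = !![a * b / (1 - a ^ 2), -1; 1, 0] :=
    ⟨⟨!![a * b / (1 - a ^ 2), -1; 1, 0], by simp [Matrix.det_fin_two]⟩, rfl⟩
  have hkB : proj k ∉ BP (F := F) := by rw [proj_mem_BP_iff, hk]; simp
  have hks : slope (proj k) = a * b / (1 - a ^ 2) := by rw [slope_proj, hk]; simp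
  refine ⟨(proj k : Pt F), fun h => hkB ?_, (hfix _ hkB).2 hks, fun p hp => ?_⟩
  · rw [base, QuotientGroup.eq, mul_one] at h
    exact (BP (F := F)).inv_mem_iff.1 h
  · obtain ⟨y, rfl⟩ := QuotientGroup.mk_surjective p
    by_cases hy : y ∈ BP (F := F)
    · left
      rw [base, QuotientGroup.eq, mul_one]
      exact (BP (F := F)).inv_mem hy
    · right
      rw [QuotientGroup.eq]
      exact inv_mul_mem_BP_of_slope hy hkB (((hfix y hy).1 hp).trans hks.symm)

variable [Fintype F]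

theorem isSolvable_point (p : Pt F) :
    Group.IsSolvable ↥(MulAction.stabilizer PSL(2, F) p) := by
  have := isSolvable_BP F
  obtain ⟨g, rfl⟩ := QuotientGroup.mk_surjective p
  let f : ↥(MulAction.stabilizer PSL(2, F) (g : Pt F)) →* ↥(BP (F := F)) :=
    ((MulAut.conj g⁻¹).toMonoidHom.comp (MulAction.stabilizer PSL(2, F) (g : Pt F)).subtype).codRestrict _
      (fun y => by
        have := (smul_mk_iff _ _ _).1 (MulAction.mem_stabilizer_iff.1 y.2)
        show g⁻¹ * (y : PSL(2, F)) * g⁻¹⁻¹ ∈ _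
        rwa [inv_inv])
  exact Group.isSolvable_of_isSolvable_injective (f := f) fun y z e =>
    Subtype.ext ((MulAut.conj g⁻¹).injective (congrArg Subtype.val e))

theorem card_point_stab (p : Pt F) :
    Nat.gcd 2 (Fintype.card F - 1) * Nat.card ↥(MulAction.stabilizer PSL(2, F) p) =
      Fintype.card F * (Fintype.card F - 1) := by
  rw [← card_BP F]
  congr 1
  obtain ⟨g, rfl⟩ := QuotientGroup.mk_surjective p
  exact Nat.card_congr ((MulAut.conj g⁻¹).toEquiv.subtypeEquiv fun y => by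
    rw [MulAction.mem_stabilizer_iff, smul_mk_iff]; simp)

theorem card_Pt : Nat.card (Pt F) = Fintype.card F + 1 := index_BP F

/-- A torus inside `BP` has order `(q - 1) / d`. -/
theorem card_torus_of_mem_BP {x : PSL(2, F)} (hx : IsTor x) (hB : x ∈ BP (F := F)) :
    Nat.gcd 2 (Fintype.card F - 1) * Nat.card (torus x) = Fintype.card F - 1 := by
  rcases card_torus hx with e | e
  · exact e
  · exfalso
    have h1 := Fintype.one_lt_card (α := F)
    have hd : Fintype.card F + 1 ∣ Fintype.card F * (Fintype.card F - 1) := by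
      rw [← card_BP F, ← e]
      exact Nat.mul_dvd_mul_left _ (Subgroup.card_dvd_of_le fun y hy => torus_le_BP hx hB hy)
    have h3 : Fintype.card F + 1 ∣ Fintype.card F - 1 :=
      (Nat.Coprime.symm (by simp)).dvd_of_dvd_mul_left hd
    have := Nat.le_of_dvd (by omega) h3
    omega

/-- A semisimple element fixing a point is split. -/
theorem card_torus_of_fixed {x : PSL(2, F)} (hx : IsTor x) {p : Pt F} (hp : x • p = p) :
    Nat.gcd 2 (Fintype.card F - 1) * Nat.card (torus x) = Fintype.card F - 1 := by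
  obtain ⟨g, rfl⟩ := exists_smul_base p
  have h := conj_smul_fix (k := g⁻¹) hp
  rw [inv_smul_smul, smul_base_iff] at h
  have := card_torus_of_mem_BP ((isTor_conj_iff g⁻¹ x).2 hx) h
  rwa [torus_conj, card_conjS] at this

theorem conjS_top_comp {X : Type*} [Group X] (C : Subgroup X) (g : (⊤ : Subgroup X)) :
    (conjS g (C.subgroupOf ⊤)).map (⊤ : Subgroup X).subtype = conjS (g : X) C := by
  ext y
  rw [mem_conjS, Subgroup.mem_map]
  constructor
  · rintro ⟨z, hz, rfl⟩
    rw [mem_conjS] at hz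
    exact hz
  · intro hy
    exact ⟨⟨y, Subgroup.mem_top y⟩, mem_conjS.2 hy, rfl⟩

/-- Tori of the same order `≥ 3` are conjugate. -/
theorem exists_conj_torus {x y : PSL(2, F)} (hx : IsTor x) (hy : IsTor y)
    (hc : Nat.card (torus x) = Nat.card (torus y)) (h3 : 3 ≤ Nat.card (torus x)) :
    ∃ g : PSL(2, F), conjS g (torus x) = torus y := by
  have hcard : ∀ z : PSL(2, F), Nat.card (DicksonPSL2.comp (⊤ : Subgroup PSL(2, F)) ⟨z, Subgroup.mem_top z⟩) =
      Nat.card (torus z) := fun z =>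
    Nat.card_congr (Subgroup.subgroupOfEquivOfLe le_top).toEquiv
  obtain ⟨g, hg⟩ := exists_conj_comp_of_gcd (H := ⊤) (x := ⟨x, Subgroup.mem_top x⟩)
    (y := ⟨y, Subgroup.mem_top y⟩) hx hy (by rw [hcard, hcard, ← hc, Nat.gcd_self]; exact h3)
  refine ⟨g, ?_⟩
  have := congrArg (Subgroup.map (⊤ : Subgroup PSL(2, F)).subtype) hg
  rw [DicksonPSL2.comp, DicksonPSL2.comp, conjS_top_comp, Subgroup.map_subgroupOf_eq_of_le le_top] at this
  exact this

/-- `A 0`, `A 1`: representatives of the split and non-split tori. -/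
structure Reps (A : Fin 2 → Subgroup PSL(2, F)) : Prop where
  isTorus : ∀ i, ∃ x, IsTor x ∧ A i = torus x
  card₀ : Nat.gcd 2 (Fintype.card F - 1) * Nat.card (A 0) = Fintype.card F - 1
  card₁ : Nat.gcd 2 (Fintype.card F - 1) * Nat.card (A 1) = Fintype.card F + 1
  cover : ∀ y : PSL(2, F), IsTor y → ∃ i g, g⁻¹ * y * g ∈ A i

theorem exists_reps_tori (hq : 4 ≤ Fintype.card F) (hq5 : Fintype.card F ≠ 5) :
    ∃ A, Reps (F := F) A := by
  obtain ⟨x₀, hx₀, -, hc₀⟩ := exists_torus_minus F hq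
  obtain ⟨x₁, hx₁, hc₁, -⟩ := exists_torus_plus F
  have h3₀ : 3 ≤ Nat.card (torus x₀) := by
    rcases gcd_two_cases F with ⟨hodd, hd, -⟩ | ⟨-, hd⟩ <;> rw [hd] at hc₀
    · obtain ⟨t, ht⟩ := hodd
      omega
    · omega
  have h3₁ : 3 ≤ Nat.card (torus x₁) := by
    rcases gcd_two_cases F with ⟨-, hd, -⟩ | ⟨-, hd⟩ <;> rw [hd] at hc₁ <;> omega
  have hd0 : 0 < Nat.gcd 2 (Fintype.card F - 1) := Nat.gcd_pos_of_pos_left _ two_pos
  refine ⟨![torus x₀, torus x₁], ⟨fun i => ?_, hc₀, hc₁, fun y hy => ?_⟩⟩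
  · fin_cases i
    · exact ⟨x₀, hx₀, rfl⟩
    · exact ⟨x₁, hx₁, rfl⟩
  · rcases card_torus hy with e | e
    · obtain ⟨g, hg⟩ := exists_conj_torus hx₀ hy
        (Nat.eq_of_mul_eq_mul_left hd0 (hc₀.trans e.symm)) h3₀
      exact ⟨0, g, mem_conjS.1 (hg ▸ self_mem_torus y)⟩
    · obtain ⟨g, hg⟩ := exists_conj_torus hx₁ hy
        (Nat.eq_of_mul_eq_mul_left hd0 (hc₁.trans e.symm)) h3₁
      exact ⟨1, g, mem_conjS.1 (hg ▸ self_mem_torus y)⟩

namespace Reps

variable {A : Fin 2 → Subgroup PSL(2, F)} (hA : Reps A)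
include hA

theorem torus_eq {i : Fin 2} {a : PSL(2, F)} (ha : a ∈ A i) (h1 : a ≠ 1) :
    IsTor a ∧ torus a = A i := by
  obtain ⟨x, hx, e⟩ := hA.isTorus i
  rw [e] at ha ⊢
  exact isTor_of_mem_torus hx ha h1

theorem comm {i : Fin 2} {a b : PSL(2, F)} (ha : a ∈ A i) (hb : b ∈ A i) : a * b = b * a := by
  obtain ⟨x, hx, e⟩ := hA.isTorus i
  rw [e] at ha hb
  exact torus_comm hx ha hb

theorem card_normalizer (i : Fin 2) :
    Nat.card (Subgroup.normalizer (A i : Set PSL(2, F))) = 2 * Nat.card (A i) := by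
  obtain ⟨x, hx, e⟩ := hA.isTorus i
  rw [e]; exact (card_normalizer_torus hx).1

theorem mem_normalizer {i : Fin 2} {n a : PSL(2, F)} (ha : a ∈ A i) (h1 : a ≠ 1)
    (h : n * a * n⁻¹ ∈ A i) : n ∈ Subgroup.normalizer (A i : Set PSL(2, F)) := by
  obtain ⟨hta, e⟩ := hA.torus_eq ha h1
  rw [← e] at h ⊢
  exact (mem_normalizer_torus_iff hta).2 h

/-- An element of the normalizer outside the torus is an inverting involution. -/
theorem inverts {i : Fin 2} {n : PSL(2, F)} (hn : n ∈ Subgroup.normalizer (A i : Set PSL(2, F)))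
    (hnA : n ∉ A i) : n * n = 1 ∧ ∀ a ∈ A i, n * a * n⁻¹ = a⁻¹ := by
  obtain ⟨x, hx, e⟩ := hA.isTorus i
  rw [e] at hn hnA ⊢
  exact (mem_or_inverts hx ((mem_normalizer_torus_iff hx).1 hn)).resolve_left hnA

theorem comm_mem {i : Fin 2} {x y : PSL(2, F)}
    (hx : x ∈ Subgroup.normalizer (A i : Set PSL(2, F)))
    (hy : y ∈ Subgroup.normalizer (A i : Set PSL(2, F))) : x * y * x⁻¹ * y⁻¹ ∈ A i := by
  by_cases hxA : x ∈ A i
  · rw [show x * y * x⁻¹ * y⁻¹ = x * (y * x⁻¹ * y⁻¹) by group]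
    exact mul_mem hxA ((Subgroup.mem_normalizer_iff.1 hy _).1 (inv_mem hxA))
  by_cases hyA : y ∈ A i
  · exact mul_mem ((Subgroup.mem_normalizer_iff.1 hx _).1 hyA) (inv_mem hyA)
  obtain ⟨t, ht, e⟩ := hA.isTorus i
  rw [e] at hx hy hxA hyA ⊢
  have h1 := div_mem_torus ht ((mem_normalizer_torus_iff ht).1 hx) ((mem_normalizer_torus_iff ht).1 hy)
    hxA hyA
  obtain ⟨-, hinv⟩ :=
    (mem_or_inverts ht ((mem_normalizer_torus_iff ht).1 hy)).resolve_left hyA
  set c := y⁻¹ * x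
  have : x * y * x⁻¹ * y⁻¹ = (y * c * y⁻¹) * (y * (y * c⁻¹ * y⁻¹) * y⁻¹) := by simp only [c]; group
  rw [this, hinv c h1, hinv c⁻¹ (inv_mem h1), inv_inv, hinv c h1]
  exact mul_mem (inv_mem h1) (inv_mem h1)

theorem index_eq {i j : Fin 2} {a g g' : PSL(2, F)} (h1 : a ≠ 1) (h : g⁻¹ * a * g ∈ A i)
    (h' : g'⁻¹ * a * g' ∈ A j) : i = j := by
  have key : ∀ (l : Fin 2) (k : PSL(2, F)), k⁻¹ * a * k ∈ A l → torus a = conjS k (A l) := by
    intro l k hk
    obtain ⟨-, e⟩ := hA.torus_eq hk (fun e => h1 (by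
      rw [mul_assoc, inv_mul_eq_one] at e; exact mul_eq_right.1 e.symm))
    rw [← e, ← torus_conj]
    congr 1
    group
  have hc := congrArg (fun C : Subgroup PSL(2, F) => Nat.card C) ((key i g h).symm.trans (key j g' h'))
  simp only [card_conjS] at hc
  have h0 := hA.card₀
  have h1' := hA.card₁
  fin_cases i <;> fin_cases j <;> simp at hc ⊢
  · rw [hc, h1'] at h0; omega
  · rw [← hc, h1'] at h0; omega

theorem mk_eq {i : Fin 2} {a g g' : PSL(2, F)} (h1 : a ≠ 1) (h : g⁻¹ * a * g ∈ A i)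
    (h' : g'⁻¹ * a * g' ∈ A i) :
    (g : PSL(2, F) ⧸ Subgroup.normalizer (A i : Set PSL(2, F))) = g' := by
  rw [QuotientGroup.eq]
  refine hA.mem_normalizer h' ?_ ?_
  · intro e
    rw [mul_assoc, inv_mul_eq_one] at e
    exact h1 (mul_eq_right.1 e.symm)
  · rw [show g⁻¹ * g' * (g'⁻¹ * a * g') * (g⁻¹ * g')⁻¹ = g⁻¹ * a * g by group]
    exact h

theorem card_stab (i : Fin 2) (c : PSL(2, F) ⧸ Subgroup.normalizer (A i : Set PSL(2, F))) :
    Nat.card ↥(MulAction.stabilizer PSL(2, F) c) = 2 * Nat.card (A i) := by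
  rw [← hA.card_normalizer i]
  obtain ⟨g, rfl⟩ := QuotientGroup.mk_surjective c
  exact Nat.card_congr ((MulAut.conj g⁻¹).toEquiv.subtypeEquiv fun y => by
    rw [MulAction.mem_stabilizer_iff, smul_mk_iff]; simp)

theorem isSolvable_coset (i : Fin 2)
    (c : PSL(2, F) ⧸ Subgroup.normalizer (A i : Set PSL(2, F))) :
    Group.IsSolvable ↥(MulAction.stabilizer PSL(2, F) c) := by
  obtain ⟨g, rfl⟩ := QuotientGroup.mk_surjective c
  obtain ⟨x, hx, e⟩ := hA.isTorus i
  have : Group.IsSolvable ↥(Subgroup.normalizer (A i : Set PSL(2, F))) := by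
    refine InTorusNormalizer.isSolvable ⟨x, hx, ?_⟩
    rw [e]
  let f : ↥(MulAction.stabilizer PSL(2, F) (g : PSL(2, F) ⧸ Subgroup.normalizer (A i : Set PSL(2, F)))) →*
      ↥(Subgroup.normalizer (A i : Set PSL(2, F))) :=
    ((MulAut.conj g⁻¹).toMonoidHom.comp (MulAction.stabilizer PSL(2, F) _).subtype).codRestrict _
      (fun y => by
        have := (smul_mk_iff _ _ _).1 (MulAction.mem_stabilizer_iff.1 y.2)
        show g⁻¹ * (y : PSL(2, F)) * g⁻¹⁻¹ ∈ _
        rwa [inv_inv])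
  exact Group.isSolvable_of_isSolvable_injective (f := f) fun y z e =>
    Subtype.ext ((MulAut.conj g⁻¹).injective (congrArg Subtype.val e))

/-- An abelian normal subgroup gives an invariant point, torus, or consists of involutions. -/
theorem abelian_normal_cases {H N : Subgroup PSL(2, F)} (hNH : ∀ h ∈ H, ∀ x ∈ N, h * x * h⁻¹ ∈ N)
    (hcomm : ∀ x ∈ N, ∀ y ∈ N, x * y = y * x) {x : PSL(2, F)} (hxN : x ∈ N) (hx1 : x ≠ 1)
    (hx : ¬ IsTor x ∨ x * x ≠ 1) :
    (∃ p : Pt F, ∀ h ∈ H, h • p = p) ∨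
      ∃ (i : Fin 2) (c : PSL(2, F) ⧸ Subgroup.normalizer (A i : Set PSL(2, F))),
        ∀ h ∈ H, h • c = c := by
  by_cases ht : IsTor x
  · right
    have hxx : x * x ≠ 1 := hx.resolve_left (not_not_intro ht)
    obtain ⟨i, g, hg⟩ := hA.cover x ht
    refine ⟨i, g, fun h hh => ?_⟩
    have hne : g⁻¹ * x * g ≠ 1 := fun e => hx1 (by
      rw [mul_assoc, inv_mul_eq_one] at e; exact mul_eq_right.1 e.symm)
    have e : h * x * h⁻¹ * x = x * (h * x * h⁻¹) := hcomm _ (hNH h hh x hxN) _ hxN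
    have hy : h * x * h⁻¹ ∈ torus x := by
      rcases mem_or_inverts (n := h * x * h⁻¹) ht
        (by rw [e, mul_inv_cancel_right]; exact self_mem_torus x) with h' | ⟨-, hinv⟩
      · exact h'
      · exfalso
        have := hinv x (self_mem_torus x)
        rw [e, mul_inv_cancel_right] at this
        exact hxx (by nth_rewrite 1 [this]; exact inv_mul_cancel x)
    rw [smul_mk_iff]
    refine hA.mem_normalizer hg hne ?_
    obtain ⟨-, e2⟩ := hA.torus_eq hg hne
    rw [← e2, show g⁻¹ * h * g * (g⁻¹ * x * g) * (g⁻¹ * h * g)⁻¹ =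
      g⁻¹ * (h * x * h⁻¹) * g⁻¹⁻¹ by group, show torus (g⁻¹ * x * g) = torus (g⁻¹ * x * g⁻¹⁻¹) by
        rw [inv_inv], conj_mem_torus_iff]
    exact hy
  · left
    obtain ⟨p, hp, huniq⟩ := existsUnique_fixed ht hx1
    refine ⟨p, fun h hh => ?_⟩
    have hy : (h * x * h⁻¹) • (h • p) = h • p := conj_smul_fix hp
    obtain ⟨p', hp', huniq'⟩ := existsUnique_fixed (x := h * x * h⁻¹)
      (fun t => ht ((isTor_conj_iff h x).1 t))
      (fun e => hx1 (by rwa [mul_inv_eq_one, mul_eq_left] at e))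
    have h2 : (h * x * h⁻¹) • (x • (h • p)) = x • (h • p) := by
      rw [← mul_smul, hcomm _ (hNH h hh x hxN) _ hxN, mul_smul, hy]
    exact huniq _ ((huniq' _ h2).trans (huniq' _ hy).symm)

end Reps

end CfsgLib.PSL2Solv
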