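import Cfsg.Agent.PSL2Solv.Basic

/-!
# Solubilizers in `PSL(2, 2 ^ f)`
-/

set_option autoImplicit false
set_option linter.unusedSectionVars false

namespace CfsgLib.PSL2Solv

open Matrix CfsgLib.SL2Trace CfsgLib.DicksonPSL2
open CfsgLib.SuzukiLocal (solSet)
open scoped MatrixGroups

variable {F : Type*} [Field F] [Fintype F]

/-- Commutators of a unipotent element with a point stabiliser are not semisimple. -/
theorem not_isTor_comm {x a : PSL(2, F)} (hx : ¬ IsTor x) {p : Pt F} (hp : x • p = p)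
    (ha : a • p = p) : ¬ IsTor (x * a * x⁻¹ * a⁻¹) := by
  obtain ⟨g, rfl⟩ := exists_smul_base p
  have h1 := conj_smul_fix (k := g⁻¹) hp
  have h2 := conj_smul_fix (k := g⁻¹) ha
  rw [inv_smul_smul, smul_base_iff] at h1 h2
  obtain ⟨w, hw⟩ := chi_eq_one_of_not_isTor h1 (fun t => hx ((isTor_conj_iff g⁻¹ x).1 t))
  rw [← isTor_conj_iff g⁻¹]
  set b := g⁻¹ * a * g⁻¹⁻¹
  have e : g⁻¹ * (x * a * x⁻¹ * a⁻¹) * g⁻¹⁻¹ = u (w + -(chi b * w)) := by
    rw [u_add, u_neg, ← conj_u h2, ← hw]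
    simp only [b]
    group
  rw [e]
  exact not_isTor_u _

section Even

variable (heven : Even (Fintype.card F))
include heven

theorem gcd_eq_one : Nat.gcd 2 (Fintype.card F - 1) = 1 := by
  rcases gcd_two_cases F with ⟨hodd, -, -⟩ | ⟨-, h⟩
  · exact absurd heven (Nat.not_even_iff_odd.2 hodd)
  · exact h

theorem charP_two : CharP F 2 := by
  obtain ⟨p, hp⟩ := CharP.exists F
  obtain ⟨n, hpp, hn⟩ := FiniteField.card F p
  have : 2 ∣ p := Nat.prime_two.dvd_of_dvd_pow (hn ▸ heven.two_dvd)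
  rwa [← (Nat.prime_dvd_prime_iff_eq Nat.prime_two hpp).1 this] at hp

theorem isTor_iff_sq (x : PSL(2, F)) : IsTor x ↔ x * x ≠ 1 := by
  have := charP_two heven
  have : Fact (Nat.Prime 2) := ⟨Nat.prime_two⟩
  rw [isTor_iff_pow 2, pow_two]

theorem not_isTor_of_order_two {x : PSL(2, F)} (h : orderOf x = 2) : x ≠ 1 ∧ ¬ IsTor x := by
  refine ⟨fun e => by rw [e, orderOf_one] at h; omega, fun t => (isTor_iff_sq heven x).1 t ?_⟩
  have := pow_orderOf_eq_one x
  rwa [h, pow_two] at this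

theorem card_involutions :
    Nat.card {x : PSL(2, F) // orderOf x = 2} = (Fintype.card F + 1) * (Fintype.card F - 1) := by
  classical
  have h1 := fun x : {x : PSL(2, F) // orderOf x = 2} => not_isTor_of_order_two heven x.2
  have : Fintype (Pt F) := Fintype.ofFinite _
  have hpt : ∀ p : Pt F,
      Nat.card {x : PSL(2, F) // x • p = p ∧ orderOf x = 2} = Fintype.card F - 1 := by
    intro p
    obtain ⟨g, rfl⟩ := exists_smul_base p
    have := charP_two heven
    rw [← Nat.card_eq_fintype_card, ← Nat.card_units]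
    symm
    refine Nat.card_eq_of_bijective (fun w : Fˣ => ⟨g * u (w : F) * g⁻¹,
      conj_smul_fix ((smul_base_iff _).2 (u_mem_BP _)),
      (MulEquiv.orderOf_eq (MulAut.conj g) _).trans (orderOf_eq_prime
        (by rw [pow_two, ← u_add, CharTwo.add_self_eq_zero, u_zero]) (u_ne_one w.ne_zero))⟩) ⟨?_, ?_⟩
    · intro v w h
      exact Units.ext (u_injective (mul_left_cancel (mul_right_cancel (congrArg Subtype.val h))))
    · rintro ⟨x, hx, hx2⟩
      obtain ⟨h1', h2'⟩ := not_isTor_of_order_two heven hx2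
      have h := conj_smul_fix (k := g⁻¹) hx
      rw [inv_smul_smul, smul_base_iff] at h
      obtain ⟨w, hw⟩ := chi_eq_one_of_not_isTor h (fun t => h2' ((isTor_conj_iff g⁻¹ x).1 t))
      have hw0 : w ≠ 0 := fun e => h1' (by rwa [e, u_zero, conj_eq_one_iff] at hw)
      refine ⟨Units.mk0 w hw0, Subtype.ext ?_⟩
      show g * u w * g⁻¹ = x
      rw [← hw]; group
  have e : {x : PSL(2, F) // orderOf x = 2} ≃
      Σ p : Pt F, {x : PSL(2, F) // x • p = p ∧ orderOf x = 2} :=
    { toFun := fun x => ⟨(existsUnique_fixed (h1 x).2 (h1 x).1).choose, x,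
        (existsUnique_fixed (h1 x).2 (h1 x).1).choose_spec.1, x.2⟩
      invFun := fun z => ⟨z.2.1, z.2.2.2⟩
      left_inv := fun x => rfl
      right_inv := fun z => Sigma.subtype_ext
        (((existsUnique_fixed (h1 ⟨z.2.1, z.2.2.2⟩).2 (h1 ⟨z.2.1, z.2.2.2⟩).1).choose_spec.2
          z.1 z.2.2.1).symm) rfl }
  rw [Nat.card_congr e, Nat.card_sigma, Finset.sum_congr rfl (fun p _ => hpt p), Finset.sum_const,
    Finset.card_univ, ← Nat.card_eq_fintype_card, card_Pt, smul_eq_mul]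

theorem conj_involution {x : PSL(2, F)} (h : orderOf x = 2) :
    ∃ g : PSL(2, F), x = g * u 1 * g⁻¹ := by
  have := charP_two heven
  obtain ⟨h1, h2⟩ := not_isTor_of_order_two heven h
  obtain ⟨a, w, ha⟩ := exists_conj_u h2
  have hw : w ≠ 0 := fun e => h1 (by rwa [e, u_zero, conj_eq_one_iff] at ha)
  obtain ⟨s, hs⟩ := (FiniteField.isSquare_of_char_two (ringChar.eq F 2) w : IsSquare w)
  have hs0 : s ≠ 0 := fun e => hw (by rw [hs, e, mul_zero])
  obtain ⟨g, hg⟩ : ∃ g : SL(2, F), g.1 = !![s, 0; 0, s⁻¹] :=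
    ⟨⟨!![s, 0; 0, s⁻¹], by simp [Matrix.det_fin_two, hs0]⟩, rfl⟩
  have hgB : proj g ∈ BP (F := F) := (proj_mem_BP_iff g).2 (by simp [hg])
  refine ⟨a⁻¹ * proj g, ?_⟩
  have e : proj g * u 1 * (proj g)⁻¹ = u w := by
    rw [conj_u hgB, chi_proj, hg]
    simp [hs, pow_two]
  calc x = a⁻¹ * (a * x * a⁻¹) * a := by group
    _ = a⁻¹ * (proj g * u 1 * (proj g)⁻¹) * a := by rw [ha, e]
    _ = _ := by group

variable {A : Fin 2 → Subgroup PSL(2, F)} (hA : Reps A)
include hA

theorem card_A : Nat.card (A 0) = Fintype.card F - 1 ∧ Nat.card (A 1) = Fintype.card F + 1 := by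
  have h0 := hA.card₀
  have h1 := hA.card₁
  rw [gcd_eq_one heven, one_mul] at h0 h1
  exact ⟨h0, h1⟩

theorem order_two_iff {i : Fin 2} {y : PSL(2, F)}
    (hy : y ∈ Subgroup.normalizer (A i : Set PSL(2, F))) : orderOf y = 2 ↔ y ∉ A i := by
  constructor
  · intro h hyA
    obtain ⟨h1, h2⟩ := not_isTor_of_order_two heven h
    exact h2 (hA.torus_eq hyA h1).1
  · intro h
    exact orderOf_eq_prime (by rw [pow_two]; exact (hA.inverts hy h).1)
      (fun e => h (e ▸ (A i).one_mem))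

theorem card_fixed {i : Fin 2} {x : PSL(2, F)} (hx : orderOf x = 2) :
    Nat.card (MulAction.fixedBy (PSL(2, F) ⧸ Subgroup.normalizer (A i : Set PSL(2, F))) x) * 2 =
      Fintype.card F := by
  set N := Subgroup.normalizer (A i : Set PSL(2, F)) with hN
  have hconst : ∀ u' : PSL(2, F), orderOf u' = 2 →
      Nat.card (MulAction.fixedBy (PSL(2, F) ⧸ N) u') =
        Nat.card (MulAction.fixedBy (PSL(2, F) ⧸ N) (u (1 : F))) := by
    intro u' hu'
    obtain ⟨g, rfl⟩ := conj_involution heven hu'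
    refine Nat.card_congr ((MulAction.toPerm g⁻¹).subtypeEquiv fun c => ?_)
    show (g * u 1 * g⁻¹) • c = c ↔ u (1 : F) • (g⁻¹ • c) = g⁻¹ • c
    rw [mul_smul, mul_smul, smul_eq_iff_eq_inv_smul]
  have h := CfsgLib.SuzukiLocal.sum_fixedBy_quotient N (fun y => orderOf y = 2) _
    (fun g y hy => (MulEquiv.orderOf_eq (MulAut.conj g) y).trans hy)
    (fun y hy => (hconst y hy).trans (hconst x hx).symm)
  have hcount : Nat.card {y : PSL(2, F) // y ∈ N ∧ orderOf y = 2} = Nat.card (A i) := by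
    have hset : {y : PSL(2, F) | y ∈ N ∧ orderOf y = 2} = (N : Set PSL(2, F)) \ A i := by
      ext y
      exact ⟨fun h => ⟨h.1, (order_two_iff heven hA h.1).1 h.2⟩,
        fun h => ⟨h.1, (order_two_iff heven hA h.1).2 h.2⟩⟩
    have e := congrArg Set.ncard hset
    rw [Set.ncard_sdiff (Subgroup.le_normalizer (H := A i)), ← Nat.card_coe_set_eq,
      ← Nat.card_coe_set_eq, ← Nat.card_coe_set_eq] at e
    change Nat.card {y : PSL(2, F) // y ∈ N ∧ orderOf y = 2} = Nat.card ↥N - Nat.card ↥(A i) at e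
    rw [e, hA.card_normalizer i, two_mul, Nat.add_sub_cancel]
  rw [card_involutions heven, hcount] at h
  have hG := card_PSL_formula F
  rw [gcd_eq_one heven, one_mul, ← Subgroup.card_mul_index N, hA.card_normalizer i] at hG
  have h2 := Fintype.one_lt_card (α := F)
  refine Nat.eq_of_mul_eq_mul_right
    (Nat.mul_pos (show 0 < Fintype.card F + 1 by omega) (show 0 < Fintype.card F - 1 by omega)) ?_
  linear_combination 2 * h + hG

theorem solv_iff {x y : PSL(2, F)} (hx : x ≠ 1) :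
    Group.IsSolvable ↥(Subgroup.closure ({x, y} : Set PSL(2, F))) ↔
      (∃ p : Pt F, x • p = p ∧ y • p = p) ∨
      ∃ (i : Fin 2) (c : PSL(2, F) ⧸ Subgroup.normalizer (A i : Set PSL(2, F))),
        x • c = c ∧ y • c = c := by
  constructor
  · intro hs
    set H := Subgroup.closure ({x, y} : Set PSL(2, F))
    have hxH : x ∈ H := Subgroup.subset_closure (by simp)
    have hyH : y ∈ H := Subgroup.subset_closure (by simp)
    have : Nontrivial H := ⟨⟨x, hxH⟩, 1, fun e => hx (congrArg Subtype.val e)⟩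
    obtain ⟨N, hN, hNb, hcomm⟩ := CfsgLib.SuzukiLocal.exists_normal_comm_ne_bot (G := H)
    obtain ⟨z, hz, hz1⟩ : ∃ z ∈ N, z ≠ 1 := by
      by_contra! h
      exact hNb ((Subgroup.eq_bot_iff_forall N).2 h)
    rcases hA.abelian_normal_cases (H := H) (N := N.map H.subtype)
      (by rintro h hh _ ⟨w, hw, rfl⟩; exact ⟨_, hN.conj_mem w hw ⟨h, hh⟩, rfl⟩)
      (by rintro _ ⟨v, hv, rfl⟩ _ ⟨w, hw, rfl⟩; exact congrArg Subtype.val (hcomm v hv w hw))
      (x := (z : PSL(2, F))) ⟨z, hz, rfl⟩ (fun e => hz1 (Subtype.ext e))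
      ((em (IsTor (z : PSL(2, F)))).elim (fun t => Or.inr ((isTor_iff_sq heven _).1 t)) Or.inl)
      with ⟨p, hp⟩ | ⟨i, c, hc⟩
    · exact Or.inl ⟨p, hp x hxH, hp y hyH⟩
    · exact Or.inr ⟨i, c, hc x hxH, hc y hyH⟩
  · intro h
    suffices ∃ K : Subgroup PSL(2, F), Group.IsSolvable K ∧ x ∈ K ∧ y ∈ K by
      obtain ⟨K, hK, h1, h2⟩ := this
      have hle : Subgroup.closure {x, y} ≤ K := by
        rw [Subgroup.closure_le]
        rintro z (rfl | rfl)
        · exact h1
        · exact h2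
      exact Group.isSolvable_of_isSolvable_injective (Subgroup.inclusion_injective hle)
    rcases h with ⟨p, h1, h2⟩ | ⟨i, c, h1, h2⟩
    · exact ⟨_, isSolvable_point p, h1, h2⟩
    · exact ⟨_, hA.isSolvable_coset i c, h1, h2⟩

theorem sol_torus {i : Fin 2} {x g : PSL(2, F)} (hx : x ≠ 1) (h : g⁻¹ * x * g ∈ A i) :
    solSet x = {y | ∃ p : Pt F, x • p = p ∧ y • p = p} ∪
      (MulAction.stabilizer PSL(2, F)
        (g : PSL(2, F) ⧸ Subgroup.normalizer (A i : Set PSL(2, F))) : Set PSL(2, F)) := by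
  have hne : g⁻¹ * x * g ≠ 1 := fun e => hx (by
    rw [mul_assoc, inv_mul_eq_one] at e; exact mul_eq_right.1 e.symm)
  have ht : IsTor x := by
    have := (hA.torus_eq h hne).1
    rwa [show g⁻¹ * x * g = g⁻¹ * x * g⁻¹⁻¹ by group, isTor_conj_iff] at this
  ext y
  show Group.IsSolvable ↥(Subgroup.closure ({x, y} : Set PSL(2, F))) ↔ _
  rw [solv_iff heven hA hx]
  constructor
  · rintro (hp | ⟨j, c, h1, h2⟩)
    · exact Or.inl hp
    · obtain ⟨g', rfl⟩ := QuotientGroup.mk_surjective c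
      rw [smul_mk_iff] at h1
      have hmem : g'⁻¹ * x * g' ∈ A j := by
        by_contra hn
        refine (not_isTor_of_order_two heven ((order_two_iff heven hA h1).2 hn)).2 ?_
        rwa [show g'⁻¹ * x * g' = g'⁻¹ * x * g'⁻¹⁻¹ by group, isTor_conj_iff]
      obtain rfl := hA.index_eq hx h hmem
      exact Or.inr (by rw [hA.mk_eq hx h hmem]; exact h2)
  · rintro (hp | hy)
    · exact Or.inl hp
    · exact Or.inr ⟨i, g, (smul_mk_iff _ _ _).2 (Subgroup.le_normalizer h), hy⟩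

theorem card_sol_nonsplit {x g : PSL(2, F)} (hx : x ≠ 1) (h : g⁻¹ * x * g ∈ A 1) :
    (solSet x).ncard = 2 * (Fintype.card F + 1) := by
  have hne : g⁻¹ * x * g ≠ 1 := fun e => hx (by
    rw [mul_assoc, inv_mul_eq_one] at e; exact mul_eq_right.1 e.symm)
  obtain ⟨ht, e⟩ := hA.torus_eq h hne
  have h0 : {y : PSL(2, F) | ∃ p : Pt F, x • p = p ∧ y • p = p} = ∅ := by
    refine Set.eq_empty_of_forall_notMem fun y hy => ?_
    obtain ⟨p, hp, -⟩ := hy
    have hp' := conj_smul_fix (k := g⁻¹) hp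
    rw [inv_inv] at hp'
    have := card_torus_of_fixed ht hp'
    rw [e, gcd_eq_one heven, one_mul, (card_A heven hA).2] at this
    omega
  rw [sol_torus heven hA hx h, h0, Set.empty_union, ← Nat.card_coe_set_eq]
  exact (hA.card_stab 1 _).trans (by rw [(card_A heven hA).2])

theorem card_sol_split {x g : PSL(2, F)} (hx : x ≠ 1) (h : g⁻¹ * x * g ∈ A 0) :
    (solSet x).ncard = 2 * Fintype.card F * (Fintype.card F - 1) := by
  classical
  obtain ⟨hk, -⟩ := card_A heven hA
  set T := conjS g (A 0) with hT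
  have hxT : x ∈ T := mem_conjS.2 h
  have hne : g⁻¹ * x * g ≠ 1 := fun e => hx (by
    rw [mul_assoc, inv_mul_eq_one] at e; exact mul_eq_right.1 e.symm)
  obtain ⟨hty, ety⟩ := hA.torus_eq h hne
  have htx : IsTor x := by rwa [show g⁻¹ * x * g = g⁻¹ * x * g⁻¹⁻¹ by group, isTor_conj_iff] at hty
  have eT : torus x = T := by
    rw [hT, ← ety, ← torus_conj]; congr 1; group
  have hxx : x * x ≠ 1 := (isTor_iff_sq heven x).1 htx
  -- the split torus fixes two points
  obtain ⟨p, hp⟩ : ∃ p : Pt F, x • p = p := by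
    obtain ⟨x₀, hx₀, hB, hc₀⟩ := exists_torus_minus F (by
      have := heven; have := Fintype.one_lt_card (α := F)
      obtain ⟨r, hr⟩ := heven
      by_contra h4
      have h2 : Fintype.card F = 2 := by omega
      rw [h2] at hk
      have : A 0 = ⊥ := Subgroup.eq_bot_of_card_eq _ hk
      rw [this, Subgroup.mem_bot] at h
      exact hne h)
    obtain ⟨j, k, hjk⟩ := hA.cover x₀ hx₀
    have hne0 : k⁻¹ * x₀ * k ≠ 1 := fun e => ne_one_of_isTor hx₀ (by
      rw [mul_assoc, inv_mul_eq_one] at e; exact mul_eq_right.1 e.symm)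
    obtain ⟨-, e₀⟩ := hA.torus_eq hjk hne0
    have e₁ : torus x₀ = conjS k (A j) := by rw [← e₀, ← torus_conj]; congr 1; group
    have hj : j = 0 := by
      have := congrArg (fun C : Subgroup PSL(2, F) => Nat.card C) e₁
      simp only [card_conjS] at this
      rw [gcd_eq_one heven, one_mul, this] at hc₀
      rcases Fin.exists_fin_two.1 ⟨j, rfl⟩ with e | e
      · exact e
      · exfalso
        have := (card_A heven hA).2
        rw [e] at hc₀
        omega
    subst hj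
    refine ⟨(g * k⁻¹) • base, ?_⟩
    have hmem : (g * k⁻¹)⁻¹ * x * (g * k⁻¹) ∈ torus x₀ := by
      rw [e₁, mem_conjS]
      simpa [mul_assoc] using h
    have hb := (smul_base_iff _).2 (torus_le_BP hx₀ hB hmem)
    have := conj_smul_fix (k := g * k⁻¹) hb
    rwa [show g * k⁻¹ * ((g * k⁻¹)⁻¹ * x * (g * k⁻¹)) * (g * k⁻¹)⁻¹ = x by group] at this
  obtain ⟨l, rfl⟩ := exists_smul_base p
  have hxB : l⁻¹ * x * l⁻¹⁻¹ ∈ BP (F := F) := by
    have := conj_smul_fix (k := l⁻¹) hp
    rwa [inv_smul_smul, smul_base_iff] at this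
  obtain ⟨r, hr, hrfix, hronly⟩ := exists_other_fixed hxB ((isTor_conj_iff _ _).2 htx)
  set p := l • (base : Pt F)
  set p' := l • r
  have hp' : x • p' = p' := by
    have := conj_smul_fix (k := l) hrfix
    rwa [show l * (l⁻¹ * x * l⁻¹⁻¹) * l⁻¹ = x by group] at this
  have honly : ∀ s : Pt F, x • s = s → s = p ∨ s = p' := by
    intro s hs
    rcases hronly _ (conj_smul_fix (k := l⁻¹) hs) with e | e
    · left; show s = l • base; rw [← e, smul_inv_smul]
    · right; show s = l • r; rw [← e, smul_inv_smul]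
  have hpp : p ≠ p' := fun e => hr (smul_left_cancel l e).symm
  have hTfix : ∀ s : Pt F, x • s = s → ∀ a ∈ T, a • s = s := by
    intro s hs a ha
    obtain ⟨l', rfl⟩ := exists_smul_base s
    have h1 := conj_smul_fix (k := l'⁻¹) hs
    rw [inv_smul_smul, smul_base_iff] at h1
    have h2 : l'⁻¹ * a * l'⁻¹⁻¹ ∈ torus (l'⁻¹ * x * l'⁻¹⁻¹) := by
      rw [conj_mem_torus_iff, eT]; exact ha
    have := conj_smul_fix (k := l') ((smul_base_iff _).2 (torus_le_BP ((isTor_conj_iff _ _).2 htx) h1 h2))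
    rwa [show l' * (l'⁻¹ * a * l'⁻¹⁻¹) * l'⁻¹ = a by group] at this
  set c : PSL(2, F) ⧸ Subgroup.normalizer (A 0 : Set PSL(2, F)) := QuotientGroup.mk g
  have hnotN : ∀ y, y • c = c → ∀ s : Pt F, x • s = s → y • s = s → y ∈ T := by
    intro y hy s hs hys
    by_contra hyT
    rw [smul_mk_iff] at hy
    have hy2 : g⁻¹ * y * g ∉ A 0 := fun e => hyT (mem_conjS.2 e)
    obtain ⟨-, hinv⟩ := hA.inverts hy hy2
    have hyo : ¬ IsTor y := by
      intro t
      refine (not_isTor_of_order_two heven ((order_two_iff heven hA hy).2 hy2)).2 ?_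
      rwa [show g⁻¹ * y * g = g⁻¹ * y * g⁻¹⁻¹ by group, isTor_conj_iff]
    have hyx : y * x * y⁻¹ = x⁻¹ := by
      have := hinv _ h
      calc y * x * y⁻¹ = g * (g⁻¹ * y * g * (g⁻¹ * x * g) * (g⁻¹ * y * g)⁻¹) * g⁻¹ := by group
        _ = g * (g⁻¹ * x * g)⁻¹ * g⁻¹ := by rw [this]
        _ = x⁻¹ := by group
    have hcomm := not_isTor_comm hyo hys hs
    rw [hyx] at hcomm
    refine hxx (by_contra fun hne' => hcomm ((hA.torus_eq (i := 0) (a := g⁻¹ * (x⁻¹ * x⁻¹) * g) ?_ ?_).1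
      |> fun t => by rwa [show g⁻¹ * (x⁻¹ * x⁻¹) * g = g⁻¹ * (x⁻¹ * x⁻¹) * g⁻¹⁻¹ by group,
        isTor_conj_iff] at t))
    · rw [← mem_conjS]
      exact mul_mem (inv_mem hxT) (inv_mem hxT)
    · intro e
      rw [mul_assoc, inv_mul_eq_one] at e
      have e' := mul_eq_right.1 e.symm
      exact hne' (by rw [← _root_.inv_inj, _root_.mul_inv_rev, e', inv_one])
  set SI := (MulAction.stabilizer PSL(2, F) p : Set PSL(2, F))
  set SO := (MulAction.stabilizer PSL(2, F) p' : Set PSL(2, F))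
  set SN := (MulAction.stabilizer PSL(2, F) c : Set PSL(2, F))
  have hfix : {y : PSL(2, F) | ∃ s : Pt F, x • s = s ∧ y • s = s} = SI ∪ SO := by
    ext y
    constructor
    · rintro ⟨s, hs, hy⟩
      rcases honly s hs with rfl | rfl
      · exact Or.inl hy
      · exact Or.inr hy
    · rintro (hy | hy)
      · exact ⟨p, hp, hy⟩
      · exact ⟨p', hp', hy⟩
  have hTN : (T : Set PSL(2, F)) ⊆ SN := fun a ha =>
    (smul_mk_iff _ _ _).2 (Subgroup.le_normalizer (mem_conjS.1 ha))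
  have hI : (SI ∪ SO) ∩ SN = (T : Set PSL(2, F)) := by
    ext y
    constructor
    · rintro ⟨hy | hy, hN⟩
      · exact hnotN y hN p hp hy
      · exact hnotN y hN p' hp' hy
    · intro ha
      exact ⟨Or.inl (hTfix p hp y ha), hTN ha⟩
  have hIO : SI ∩ SO = (T : Set PSL(2, F)) := by
    ext y
    refine ⟨fun hy => ?_, fun ha => ⟨hTfix p hp y ha, hTfix p' hp' y ha⟩⟩
    obtain ⟨hy1, hy2⟩ := hy
    show y ∈ T
    by_cases hyo : y = 1
    · subst hyo; exact T.one_mem
    -- two fixed points force `y` to be semisimple and to commute with `x`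
    by_contra hyT
    by_cases ht : IsTor y
    · have hc : ¬ IsTor (x * y * x⁻¹ * y⁻¹) := by
        intro t
        obtain ⟨k, hk'⟩ := exists_smul_base p
        have b1 := conj_smul_fix (k := k⁻¹) hp
        have b2 := conj_smul_fix (k := k⁻¹) (show y • p = p from hy1)
        rw [← hk', inv_smul_smul, smul_base_iff] at b1 b2
        have t' := (isTor_conj_iff k⁻¹ _).2 t
        rw [show k⁻¹ * (x * y * x⁻¹ * y⁻¹) * k⁻¹⁻¹ = (k⁻¹ * x * k⁻¹⁻¹) * (k⁻¹ * y * k⁻¹⁻¹) *
          (k⁻¹ * x * k⁻¹⁻¹)⁻¹ * (k⁻¹ * y * k⁻¹⁻¹)⁻¹ by group] at t'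
        refine chi_ne_one_of_isTor (mul_mem (mul_mem (mul_mem b1 b2) (inv_mem b1)) (inv_mem b2)) t' ?_
        have hinvchi : ∀ z ∈ BP (F := F), chi z * chi z⁻¹ = 1 := fun z hz => by
          rw [← chi_mul z (inv_mem hz), mul_inv_cancel, chi_one]
        rw [chi_mul _ (inv_mem b2), chi_mul _ (inv_mem b1), chi_mul _ b2]
        linear_combination (chi (k⁻¹ * y * k⁻¹⁻¹) * chi (k⁻¹ * y * k⁻¹⁻¹)⁻¹) * hinvchi _ b1 +
          hinvchi _ b2
      by_cases hc1 : x * y * x⁻¹ * y⁻¹ = 1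
      · refine hyT ?_
        rw [← eT]
        have hyx : y * x * y⁻¹ = x := by
          rw [mul_inv_eq_one, mul_inv_eq_iff_eq_mul] at hc1
          rw [← hc1, mul_inv_cancel_right]
        rcases mem_or_inverts (n := y) htx (by rw [hyx]; exact self_mem_torus x) with h' | ⟨-, hi⟩
        · exact h'
        · exfalso
          have := hi x (self_mem_torus x)
          rw [hyx] at this
          exact hxx (by nth_rewrite 1 [this]; exact inv_mul_cancel x)
      · have h1 : (x * y * x⁻¹ * y⁻¹) • p = p := by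
          rw [mul_smul, mul_smul, mul_smul, inv_smul_eq_iff.2 (Eq.symm hy1), inv_smul_eq_iff.2 hp.symm,
            show y • p = p from hy1, hp]
        have h2 : (x * y * x⁻¹ * y⁻¹) • p' = p' := by
          rw [mul_smul, mul_smul, mul_smul, inv_smul_eq_iff.2 (Eq.symm hy2), inv_smul_eq_iff.2 hp'.symm,
            show y • p' = p' from hy2, hp']
        exact hpp ((existsUnique_fixed hc hc1).unique h1 h2)
    · exact hpp ((existsUnique_fixed ht hyo).unique hy1 hy2)
  rw [sol_torus heven hA hx h, hfix]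
  have e1 := Set.ncard_union_add_ncard_inter SI SO
  have e2 := Set.ncard_union_add_ncard_inter (SI ∪ SO) SN
  rw [hIO] at e1
  rw [hI] at e2
  have hpt : ∀ s : Pt F, (MulAction.stabilizer PSL(2, F) s : Set PSL(2, F)).ncard =
      Fintype.card F * (Fintype.card F - 1) := by
    intro s
    rw [← Nat.card_coe_set_eq]
    have := card_point_stab s
    rw [gcd_eq_one heven, one_mul] at this
    exact this
  have c1 : SI.ncard = Fintype.card F * (Fintype.card F - 1) := hpt p
  have c2 : SO.ncard = Fintype.card F * (Fintype.card F - 1) := hpt p'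
  have c3 : SN.ncard = 2 * Nat.card (A 0) := by
    rw [← Nat.card_coe_set_eq]; exact hA.card_stab 0 c
  have c4 : (T : Set PSL(2, F)).ncard = Nat.card (A 0) := by
    rw [← Nat.card_coe_set_eq]; exact card_conjS g (A 0)
  rw [mul_assoc]
  show (SI ∪ SO ∪ SN).ncard = _
  omega

theorem card_sol_involution {x : PSL(2, F)} (hx : orderOf x = 2) :
    (solSet x).ncard = 3 * Fintype.card F * (Fintype.card F - 1) := by
  classical
  obtain ⟨hx1, hxt⟩ := not_isTor_of_order_two heven hx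
  obtain ⟨p, hp, huniq⟩ := existsUnique_fixed hxt hx1
  set B := (MulAction.stabilizer PSL(2, F) p : Set PSL(2, F))
  let P : (i : Fin 2) → (PSL(2, F) ⧸ Subgroup.normalizer (A i : Set PSL(2, F))) → Set PSL(2, F) :=
    fun i c => (MulAction.stabilizer PSL(2, F) c : Set PSL(2, F)) \ B
  have hmem : ∀ y, y ∈ solSet x ↔ y ∈ B ∨ ∃ (i : Fin 2)
      (c : PSL(2, F) ⧸ Subgroup.normalizer (A i : Set PSL(2, F))), x • c = c ∧ y • c = c := by
    intro y
    show Group.IsSolvable ↥(Subgroup.closure ({x, y} : Set PSL(2, F))) ↔ _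
    rw [solv_iff heven hA hx1]
    exact or_congr ⟨fun ⟨r, hr, hy⟩ => show y • p = p by rw [← huniq r hr]; exact hy,
      fun hy => ⟨p, hp, hy⟩⟩ Iff.rfl
  let Z := Σ i : Fin 2, Σ c : MulAction.fixedBy
    (PSL(2, F) ⧸ Subgroup.normalizer (A i : Set PSL(2, F))) x, ↥(P i c.1)
  let f : Z → ↥(solSet x \ B) := fun z =>
    ⟨z.2.2.1, (hmem _).2 (Or.inr ⟨z.1, z.2.1.1, z.2.1.2, z.2.2.2.1⟩), z.2.2.2.2⟩
  have hf : Function.Bijective f := by
    constructor
    · rintro ⟨i, ⟨c, hc⟩, y, hy, hyB⟩ ⟨j, ⟨d, hd⟩, y', hy', hyB'⟩ h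
      obtain rfl : y = y' := congrArg Subtype.val h
      obtain ⟨g, rfl⟩ := QuotientGroup.mk_surjective c
      obtain ⟨g', rfl⟩ := QuotientGroup.mk_surjective d
      have hxg : g⁻¹ * x * g ∈ Subgroup.normalizer (A i : Set PSL(2, F)) := (smul_mk_iff _ _ _).1 hc
      have hxg' : g'⁻¹ * x * g' ∈ Subgroup.normalizer (A j : Set PSL(2, F)) :=
        (smul_mk_iff _ _ _).1 hd
      have hyg := (smul_mk_iff _ _ _).1 hy
      have hyg' := (smul_mk_iff _ _ _).1 hy'
      have hc1 : x * y * x⁻¹ * y⁻¹ ≠ 1 := by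
        intro e
        refine hyB ?_
        rw [mul_inv_eq_one, mul_inv_eq_iff_eq_mul] at e
        have : x • (y • p) = y • p := by rw [← mul_smul, e, mul_smul, hp]
        exact huniq _ this
      have m1 : g⁻¹ * (x * y * x⁻¹ * y⁻¹) * g ∈ A i := by
        have := hA.comm_mem hxg hyg
        rwa [show g⁻¹ * x * g * (g⁻¹ * y * g) * (g⁻¹ * x * g)⁻¹ * (g⁻¹ * y * g)⁻¹ =
          g⁻¹ * (x * y * x⁻¹ * y⁻¹) * g by group] at this
      have m2 : g'⁻¹ * (x * y * x⁻¹ * y⁻¹) * g' ∈ A j := by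
        have := hA.comm_mem hxg' hyg'
        rwa [show g'⁻¹ * x * g' * (g'⁻¹ * y * g') * (g'⁻¹ * x * g')⁻¹ * (g'⁻¹ * y * g')⁻¹ =
          g'⁻¹ * (x * y * x⁻¹ * y⁻¹) * g' by group] at this
      obtain rfl := hA.index_eq hc1 m1 m2
      have hcd := hA.mk_eq hc1 m1 m2
      refine Sigma.ext rfl (heq_of_eq (Sigma.ext (Subtype.ext hcd) ?_))
      exact (Subtype.heq_iff_coe_eq (fun z => by simp [hcd])).2 rfl
    · rintro ⟨y, hy, hyB⟩
      obtain hy' | ⟨i, c, hc, hyc⟩ := (hmem y).1 hy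
      · exact absurd hy' hyB
      · exact ⟨⟨i, ⟨c, hc⟩, y, hyc, hyB⟩, rfl⟩
  have hP : ∀ (i : Fin 2) (c : MulAction.fixedBy
      (PSL(2, F) ⧸ Subgroup.normalizer (A i : Set PSL(2, F))) x),
      Nat.card ↥(P i c.1) = 2 * Nat.card (A i) - 2 := by
    rintro i ⟨c, hc⟩
    obtain ⟨g, rfl⟩ := QuotientGroup.mk_surjective c
    have hxg : g⁻¹ * x * g ∈ Subgroup.normalizer (A i : Set PSL(2, F)) := (smul_mk_iff _ _ _).1 hc
    have hxA : g⁻¹ * x * g ∉ A i := by
      intro e
      refine hxt ?_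
      have hne : g⁻¹ * x * g ≠ 1 := fun e => hx1 (by
        rw [mul_assoc, inv_mul_eq_one] at e; exact mul_eq_right.1 e.symm)
      have := (hA.torus_eq e hne).1
      rwa [show g⁻¹ * x * g = g⁻¹ * x * g⁻¹⁻¹ by group, isTor_conj_iff] at this
    have hfree : ∀ a : PSL(2, F), g⁻¹ * a * g ∈ A i → a • p = p → a = 1 := by
      intro a ha hap
      by_contra ha1
      have hne : g⁻¹ * a * g ≠ 1 := fun e => ha1 (by
        rw [mul_assoc, inv_mul_eq_one] at e; exact mul_eq_right.1 e.symm)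
      have hinv := (hA.inverts hxg hxA).2 _ ha
      have e : g⁻¹ * (x * a * x⁻¹ * a⁻¹) * g = (g⁻¹ * a * g)⁻¹ * (g⁻¹ * a * g)⁻¹ := by
        nth_rewrite 1 [← hinv]
        group
      have hc' := not_isTor_comm hxt hp hap
      by_cases h1 : (g⁻¹ * a * g)⁻¹ * (g⁻¹ * a * g)⁻¹ = 1
      · refine (isTor_iff_sq heven (g⁻¹ * a * g)).1 (hA.torus_eq ha hne).1 ?_
        rw [← _root_.inv_inj, _root_.mul_inv_rev, h1, inv_one]
      · refine hc' ?_
        have := (hA.torus_eq (mul_mem (inv_mem ha) (inv_mem ha)) h1).1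
        rwa [← e, show g⁻¹ * (x * a * x⁻¹ * a⁻¹) * g = g⁻¹ * (x * a * x⁻¹ * a⁻¹) * g⁻¹⁻¹ by group,
          isTor_conj_iff] at this
    have hint : (MulAction.stabilizer PSL(2, F)
        (g : PSL(2, F) ⧸ Subgroup.normalizer (A i : Set PSL(2, F))) : Set PSL(2, F)) ∩ B = {1, x} := by
      ext y
      constructor
      · rintro ⟨hy, hyB⟩
        have hyg := (smul_mk_iff _ _ _).1 (MulAction.mem_stabilizer_iff.1 hy)
        by_cases hyA : g⁻¹ * y * g ∈ A i
        · exact Or.inl (hfree y hyA hyB)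
        · right
          obtain ⟨t, ht, et⟩ := hA.isTorus i
          have hd : (g⁻¹ * x * g)⁻¹ * (g⁻¹ * y * g) ∈ torus t := by
            rw [et] at hxg hyg hxA hyA
            exact div_mem_torus ht ((mem_normalizer_torus_iff ht).1 hyg)
              ((mem_normalizer_torus_iff ht).1 hxg) hyA hxA
          have := hfree (x⁻¹ * y) (by rw [et, show g⁻¹ * (x⁻¹ * y) * g =
            (g⁻¹ * x * g)⁻¹ * (g⁻¹ * y * g) by group]; exact hd)
            (by rw [mul_smul, show y • p = p from hyB, inv_smul_eq_iff, hp])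
          exact (inv_mul_eq_one.1 this).symm
      · rintro (rfl | rfl)
        · exact ⟨one_mem (MulAction.stabilizer _ _), one_mem (MulAction.stabilizer _ _)⟩
        · exact ⟨hc, hp⟩
    have hsplit := Set.ncard_inter_add_ncard_sdiff_eq_ncard
      (MulAction.stabilizer PSL(2, F)
        (g : PSL(2, F) ⧸ Subgroup.normalizer (A i : Set PSL(2, F))) : Set PSL(2, F)) B
    rw [hint, Set.ncard_pair (Ne.symm hx1)] at hsplit
    have hS : (MulAction.stabilizer PSL(2, F)
        (g : PSL(2, F) ⧸ Subgroup.normalizer (A i : Set PSL(2, F))) : Set PSL(2, F)).ncard =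
        2 * Nat.card (A i) := by rw [← Nat.card_coe_set_eq]; exact hA.card_stab i _
    rw [Nat.card_coe_set_eq]
    show ((MulAction.stabilizer PSL(2, F)
        (g : PSL(2, F) ⧸ Subgroup.normalizer (A i : Set PSL(2, F))) : Set PSL(2, F)) \ B).ncard = _
    omega
  have hsub : B ⊆ solSet x := fun y hy => (hmem y).2 (Or.inl hy)
  rw [← Set.ncard_sdiff_add_ncard_of_subset hsub, ← Nat.card_coe_set_eq, ← Nat.card_eq_of_bijective f hf,
    Nat.card_sigma, Fin.sum_univ_two]
  have hB : B.ncard = Fintype.card F * (Fintype.card F - 1) := by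
    rw [← Nat.card_coe_set_eq]
    have := card_point_stab p
    rw [gcd_eq_one heven, one_mul] at this
    exact this
  have key : ∀ i : Fin 2, Nat.card (Σ c : MulAction.fixedBy
      (PSL(2, F) ⧸ Subgroup.normalizer (A i : Set PSL(2, F))) x, ↥(P i c.1)) =
      Fintype.card F * (Nat.card (A i) - 1) := by
    intro i
    have := Fintype.ofFinite (MulAction.fixedBy
      (PSL(2, F) ⧸ Subgroup.normalizer (A i : Set PSL(2, F))) x)
    rw [Nat.card_sigma, Finset.sum_congr rfl (fun c _ => hP i c), Finset.sum_const, Finset.card_univ,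
      ← Nat.card_eq_fintype_card, smul_eq_mul, ← card_fixed heven hA (i := i) hx, mul_assoc,
      Nat.mul_sub_one]
  rw [key 0, key 1, hB, (card_A heven hA).1, (card_A heven hA).2]
  have h2 := Fintype.one_lt_card (α := F)
  obtain ⟨t, ht⟩ : ∃ t, Fintype.card F = t + 2 := ⟨Fintype.card F - 2, by omega⟩
  rw [ht]
  simp only [show t + 2 - 1 = t + 1 by omega, show t + 1 - 1 = t by omega,
    show t + 2 + 1 - 1 = t + 2 by omega]
  ring

end Even

end CfsgLib.PSL2Solv
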