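import Cfsg.Agent.PSL2Solv.Split

/-!
# Involutions and four-groups of `PSL(2, q)`, `q` a power of `3` congruent to `3` modulo `8`
-/

set_option autoImplicit false
set_option linter.unusedSectionVars false

namespace CfsgLib.PSL2Solv

open Matrix CfsgLib.SL2Trace CfsgLib.DicksonPSL2
open scoped MatrixGroups

variable {F : Type*} [Field F] [Fintype F]

/-- Two commuting involutions. -/
def Four (x v : PSL(2, F)) : Prop := orderOf x = 2 ∧ orderOf v = 2 ∧ x ≠ v ∧ x * v = v * x

/-- The four-group spanned by `x` and `v`, as a set. -/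
def fourSet (x v : PSL(2, F)) : Set PSL(2, F) := {1, x, v, x * v}

/-- Normaliser of the four-group spanned by `x` and `v`. -/
def fourN (x v : PSL(2, F)) : Subgroup PSL(2, F) := Subgroup.normalizer (fourSet x v)

/-- The elements mapping `x` to `v` and `v` to `x * v`. -/
def cyc (x v : PSL(2, F)) : Set PSL(2, F) := {y | y * x * y⁻¹ = v ∧ y * v * y⁻¹ = x * v}

theorem mul_self_of_order_two {x : PSL(2, F)} (h : orderOf x = 2) : x * x = 1 := by
  have := pow_orderOf_eq_one x
  rwa [h, pow_two] at this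

theorem ne_one_of_order_two {x : PSL(2, F)} (h : orderOf x = 2) : x ≠ 1 := fun e => by
  rw [e, orderOf_one] at h; omega

theorem order_two_of_mul_self {x : PSL(2, F)} (h : x * x = 1) (h1 : x ≠ 1) : orderOf x = 2 :=
  orderOf_eq_prime (by rw [pow_two, h]) h1

theorem orderOf_conj (g x : PSL(2, F)) : orderOf (g * x * g⁻¹) = orderOf x :=
  MulEquiv.orderOf_eq (MulAut.conj g) x

theorem orderOf_conj' (g x : PSL(2, F)) : orderOf (g⁻¹ * x * g) = orderOf x := by
  rw [show g⁻¹ * x * g = g⁻¹ * x * g⁻¹⁻¹ by group, orderOf_conj]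

theorem comm_iff_conj {a b : PSL(2, F)} : a * b = b * a ↔ a * b * a⁻¹ = b := by
  rw [mul_inv_eq_iff_eq_mul]

theorem Four.symm {x v : PSL(2, F)} (h : Four x v) : Four v x :=
  ⟨h.2.1, h.1, h.2.2.1.symm, h.2.2.2.symm⟩

theorem Four.mul_ne_one {x v : PSL(2, F)} (h : Four x v) : x * v ≠ 1 := fun e =>
  h.2.2.1 ((eq_inv_of_mul_eq_one_left e).trans (inv_eq_self_of_sq (mul_self_of_order_two h.2.1)))

theorem Four.mul_right {x v : PSL(2, F)} (h : Four x v) : Four x (x * v) := by
  obtain ⟨hx, hv, hne, hc⟩ := h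
  refine ⟨hx, order_two_of_mul_self ?_ (Four.mul_ne_one ⟨hx, hv, hne, hc⟩), ?_, ?_⟩
  · rw [mul_assoc, ← mul_assoc v, ← hc, mul_assoc x v v, mul_self_of_order_two hv, mul_one,
      mul_self_of_order_two hx]
  · intro e
    exact ne_one_of_order_two hv (mul_eq_left.1 e.symm)
  · rw [mul_assoc x v x, ← hc]

theorem fourSet_mul_right {x v : PSL(2, F)} (h : Four x v) :
    fourSet x (x * v) = fourSet x v := by
  simp only [fourSet]
  rw [← mul_assoc, mul_self_of_order_two h.1, one_mul]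
  ext y
  simp only [Set.mem_insert_iff, Set.mem_singleton_iff]
  tauto

theorem mem_fourN_of_conj {x v y : PSL(2, F)}
    (hS : ({y * x * y⁻¹, y * v * y⁻¹, y * (x * v) * y⁻¹} : Set PSL(2, F)) = {x, v, x * v}) :
    y ∈ fourN x v := by
  rw [fourN, Subgroup.mem_set_normalizer_iff]
  intro a
  have himg : (fun z => y * z * y⁻¹) '' fourSet x v = fourSet x v := by
    simp only [fourSet, Set.image_insert_eq, Set.image_singleton]
    rw [hS, mul_one, mul_inv_cancel]
  constructor
  · intro ha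
    have := Set.mem_image_of_mem (fun z => y * z * y⁻¹) ha
    rwa [himg] at this
  · intro ha
    rw [← himg] at ha
    obtain ⟨b, hb, e⟩ := ha
    rwa [← mul_left_cancel (mul_right_cancel e)]

theorem cyc_subset_fourN {x v : PSL(2, F)} (h : Four x v) : cyc x v ⊆ fourN x v := by
  rintro y ⟨h1, h2⟩
  refine mem_fourN_of_conj ?_
  have h3 : y * (x * v) * y⁻¹ = x := by
    rw [show y * (x * v) * y⁻¹ = (y * x * y⁻¹) * (y * v * y⁻¹) by group, h1, h2, ← mul_assoc,
      ← h.2.2.2, mul_assoc, mul_self_of_order_two h.2.1, mul_one]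
  rw [h1, h2, h3]
  ext z
  simp only [Set.mem_insert_iff, Set.mem_singleton_iff]
  tauto

namespace Reps

variable {A : Fin 2 → Subgroup PSL(2, F)} (hA : Reps A) (h8 : Fintype.card F % 8 = 3)
include hA h8

theorem card_A_odd : 2 * Nat.card (A 0) = Fintype.card F - 1 ∧
    2 * Nat.card (A 1) = Fintype.card F + 1 ∧
    Nat.gcd 2 (Fintype.card F - 1) = 2 := by
  have hd : Nat.gcd 2 (Fintype.card F - 1) = 2 := by
    rcases gcd_two_cases F with ⟨-, hd, -⟩ | ⟨he, -⟩
    · exact hd
    · obtain ⟨r, hr⟩ := he; omega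
  have h0 := hA.card₀
  have h1 := hA.card₁
  rw [hd] at h0 h1
  exact ⟨h0, h1, hd⟩

variable [CharP F 3]

theorem isTor_of_order_two {x : PSL(2, F)} (h : orderOf x = 2) : IsTor x := by
  have : Fact (Nat.Prime 3) := ⟨Nat.prime_three⟩
  rw [isTor_iff_pow 3, pow_succ, pow_two, mul_self_of_order_two h, one_mul]
  exact ne_one_of_order_two h

theorem exists_conj_one {x : PSL(2, F)} (h : orderOf x = 2) :
    ∃ g : PSL(2, F), g⁻¹ * x * g ∈ A 1 := by
  obtain ⟨i, g, hg⟩ := hA.cover x (hA.isTor_of_order_two h8 h)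
  rcases Fin.exists_fin_two.1 ⟨i, rfl⟩ with rfl | rfl
  · exfalso
    have := (A 0).orderOf_dvd_natCard hg
    rw [orderOf_conj', h] at this
    have h0 := (hA.card_A_odd h8).1
    obtain ⟨r, hr⟩ := this
    omega
  · exact ⟨g, hg⟩

theorem card_torus_involution {x : PSL(2, F)} (h : orderOf x = 2) :
    2 * Nat.card (torus x) = Fintype.card F + 1 := by
  obtain ⟨g, hg⟩ := hA.exists_conj_one h8 h
  rw [(hA.torus_conj_eq (ne_one_of_order_two h) hg).2, card_conjS]
  exact (hA.card_A_odd h8).2.1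

/-- The torus of an involution has no element of order `4`. -/
theorem sq_ne {x c : PSL(2, F)} (h : orderOf x = 2) (hc : c ∈ torus x) : c * c ≠ x := by
  intro e
  have h4 : orderOf c = 4 := by
    refine orderOf_eq_prime_pow (p := 2) (n := 1) ?_ ?_
    · rw [pow_one, pow_two, e]; exact ne_one_of_order_two h
    · rw [show (2 : ℕ) ^ (1 + 1) = 2 * 2 from rfl, pow_mul, pow_two c, e, pow_two, mul_self_of_order_two h]
  have hd := (torus x).orderOf_dvd_natCard hc
  rw [h4] at hd
  have := hA.card_torus_involution h8 h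
  obtain ⟨r, hr⟩ := hd
  omega

theorem eq_of_torus {x a : PSL(2, F)} (h : orderOf x = 2) (ha : a ∈ torus x) (ha2 : a * a = 1) :
    a = 1 ∨ a = x := by
  classical
  have ht := hA.isTor_of_order_two h8 h
  have := isCyclic_torus ht
  have := Fintype.ofFinite (torus x)
  by_contra! hne
  have hle := IsCyclic.card_pow_eq_one_le (α := torus x) (n := 2) two_pos
  have hsub : ({1, ⟨x, self_mem_torus x⟩, ⟨a, ha⟩} : Finset (torus x)) ⊆
      Finset.univ.filter (fun b => b ^ 2 = 1) := by
    intro b hb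
    simp only [Finset.mem_insert, Finset.mem_singleton] at hb
    rw [Finset.mem_filter]
    refine ⟨Finset.mem_univ _, ?_⟩
    rcases hb with rfl | rfl | rfl
    · exact one_pow _
    · exact Subtype.ext (by rw [Subgroup.coe_pow, pow_two, mul_self_of_order_two h]; rfl)
    · exact Subtype.ext (by rw [Subgroup.coe_pow, pow_two, ha2]; rfl)
  have hc3 : ({1, ⟨x, self_mem_torus x⟩, ⟨a, ha⟩} : Finset (torus x)).card = 3 := by
    rw [Finset.card_eq_three]
    exact ⟨_, _, _, fun e => ne_one_of_order_two h (congrArg Subtype.val e).symm,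
      fun e => hne.1 (congrArg Subtype.val e).symm, fun e => hne.2 (congrArg Subtype.val e).symm, rfl⟩
  have := (Finset.card_le_card hsub).trans hle
  omega

/-- The centraliser of an involution is the normaliser of its torus. -/
theorem comm_iff {x y : PSL(2, F)} (h : orderOf x = 2) :
    x * y = y * x ↔ y * x * y⁻¹ ∈ torus x := by
  constructor
  · intro e
    rw [← e, mul_inv_cancel_right]
    exact self_mem_torus x
  · intro hy
    have h2 : orderOf (y * x * y⁻¹) = 2 := (orderOf_conj y x).trans h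
    rcases hA.eq_of_torus h8 h hy (mul_self_of_order_two h2) with e | e
    · exact absurd e (ne_one_of_order_two h2)
    · exact (mul_inv_eq_iff_eq_mul.1 e).symm

theorem comm_cases {x y : PSL(2, F)} (h : orderOf x = 2) (e : x * y = y * x) :
    y ∈ torus x ∨ (y * y = 1 ∧ ∀ a ∈ torus x, y * a * y⁻¹ = a⁻¹) :=
  mem_or_inverts (hA.isTor_of_order_two h8 h) ((hA.comm_iff h8 h).1 e)

theorem not_mem_torus {x v : PSL(2, F)} (h : Four x v) : v ∉ torus x := fun hv => by
  rcases hA.eq_of_torus h8 h.1 hv (mul_self_of_order_two h.2.1) with e | e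
  · exact ne_one_of_order_two h.2.1 e
  · exact h.2.2.1 e.symm

theorem four_inverts {x v a : PSL(2, F)} (h : Four x v) (ha : a ∈ torus x) :
    v * a * v⁻¹ = a⁻¹ :=
  (((hA.comm_cases h8 h.1 h.2.2.2).resolve_left (hA.not_mem_torus h8 h))).2 a ha

/-- A four-group is its own centraliser. -/
theorem mem_fourSet_of_comm {x v y : PSL(2, F)} (h : Four x v) (hx : x * y = y * x)
    (hv : v * y = y * v) : y ∈ fourSet x v := by
  have key : ∀ a ∈ torus x, v * a = a * v → a = 1 ∨ a = x := by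
    intro a ha e
    refine hA.eq_of_torus h8 h.1 ha ?_
    have := hA.four_inverts h8 h ha
    rw [e, mul_inv_cancel_right] at this
    nth_rewrite 1 [this]
    exact inv_mul_cancel a
  simp only [fourSet, Set.mem_insert_iff, Set.mem_singleton_iff]
  by_cases hy : y ∈ torus x
  · rcases key y hy hv with e | e <;> simp [e]
  · have ht := hA.isTor_of_order_two h8 h.1
    have hd := div_mem_torus ht ((hA.comm_iff h8 h.1).1 hx) ((hA.comm_iff h8 h.1).1 h.2.2.2) hy
      (hA.not_mem_torus h8 h)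
    rcases key _ hd (by rw [← mul_assoc, mul_inv_cancel, one_mul, mul_assoc, ← hv, ← mul_assoc,
      inv_mul_cancel, one_mul]) with e | e
    · rw [inv_mul_eq_one] at e
      exact Or.inr (Or.inr (Or.inl e.symm))
    · rw [inv_mul_eq_iff_eq_mul, ← h.2.2.2] at e
      exact Or.inr (Or.inr (Or.inr e))

theorem mem_centraliser_four {x v y : PSL(2, F)} (h : Four x v) :
    y ∈ fourSet x v ↔ x * y = y * x ∧ v * y = y * v := by
  refine ⟨?_, fun e => hA.mem_fourSet_of_comm h8 h e.1 e.2⟩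
  obtain ⟨-, -, -, hc⟩ := h
  simp only [fourSet, Set.mem_insert_iff, Set.mem_singleton_iff]
  rintro (rfl | rfl | rfl | rfl)
  · simp
  · exact ⟨rfl, hc.symm⟩
  · exact ⟨hc, rfl⟩
  · exact ⟨by rw [mul_assoc x v x, ← hc],
      by rw [← mul_assoc, ← hc]⟩

theorem card_fourSet {x v : PSL(2, F)} (h : Four x v) : (fourSet x v).ncard = 4 := by
  have h1 := ne_one_of_order_two h.1
  have h2 := ne_one_of_order_two h.2.1
  have h3 := h.mul_ne_one
  rw [fourSet, Set.ncard_insert_of_notMem, Set.ncard_insert_of_notMem, Set.ncard_pair]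
  · exact fun e => h1 (mul_eq_right.1 e.symm)
  · simp only [Set.mem_insert_iff, Set.mem_singleton_iff, not_or]
    exact ⟨h.2.2.1, fun e => h2 (mul_eq_left.1 e.symm)⟩
  · simp only [Set.mem_insert_iff, Set.mem_singleton_iff, not_or]
    exact ⟨h1.symm, h2.symm, h3.symm⟩

/-- No element swaps two commuting involutions. -/
theorem no_swap {x v y : PSL(2, F)} (h : Four x v) (h1 : y * x * y⁻¹ = v) (h2 : y * v * y⁻¹ = x) :
    False := by
  have hxx := mul_self_of_order_two h.1
  have hvv := mul_self_of_order_two h.2.1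
  set z := x * v with hz
  have hz2 : orderOf z = 2 := h.mul_right.2.1
  have hyz : z * y = y * z := by
    have : y * z * y⁻¹ = z := by
      rw [hz, show y * (x * v) * y⁻¹ = (y * x * y⁻¹) * (y * v * y⁻¹) by group, h1, h2, h.2.2.2]
    exact (mul_inv_eq_iff_eq_mul.1 this).symm
  have hzx : Four z x := h.mul_right.symm
  have core : ∀ c ∈ torus z, c * x * c⁻¹ = v → False := by
    intro c hc e
    have h3 := hA.four_inverts h8 hzx hc
    -- `x c x = c⁻¹`
    have e2 : v = x * (c⁻¹ * c⁻¹) := by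
      rw [← e]
      calc c * x * c⁻¹ = x * (x * c * x⁻¹) * c⁻¹ := by
            rw [inv_eq_self_of_sq hxx, ← mul_assoc x (x * c) x, ← mul_assoc x x c, hxx, one_mul]
        _ = _ := by rw [h3, mul_assoc]
    refine hA.sq_ne h8 hz2 (inv_mem hc) ?_
    rw [hz, e2, ← mul_assoc x x, hxx, one_mul]
  by_cases hy : y ∈ torus z
  · exact core y hy h1
  · have ht := hA.isTor_of_order_two h8 hz2
    have hd := div_mem_torus ht ((hA.comm_iff h8 hz2).1 hyz) ((hA.comm_iff h8 hz2).1 hzx.2.2.2) hy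
      (hA.not_mem_torus h8 hzx)
    refine core _ hd ?_
    rw [show x⁻¹ * y * x * (x⁻¹ * y)⁻¹ = x⁻¹ * (y * x * y⁻¹) * x by group, h1,
      inv_eq_self_of_sq hxx, h.2.2.2, mul_assoc, hxx, mul_one]

/-- Both elements of a four-group other than `v` can be reached from `v`. -/
theorem exists_cyc {x v : PSL(2, F)} (h : Four x v) : (cyc x v).Nonempty := by
  classical
  obtain ⟨g₁, hg₁⟩ := hA.exists_conj_one h8 h.1
  obtain ⟨g₂, hg₂⟩ := hA.exists_conj_one h8 h.2.1
  set a := g₁⁻¹ * x * g₁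
  set b := g₂⁻¹ * v * g₂
  have hab : a = b := by
    have ha2 : orderOf a = 2 := (orderOf_conj' _ _).trans h.1
    have hb2 : orderOf b = 2 := (orderOf_conj' _ _).trans h.2.1
    have e := (hA.torus_eq hg₁ (ne_one_of_order_two ha2)).2
    rcases hA.eq_of_torus h8 ha2 (e ▸ hg₂) (mul_self_of_order_two hb2) with e' | e'
    · exact absurd e' (ne_one_of_order_two hb2)
    · exact e'.symm
  set g := g₂ * g₁⁻¹
  have hgx : g * x * g⁻¹ = v := by
    calc g * x * g⁻¹ = g₂ * a * g₂⁻¹ := by simp only [g, a]; group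
      _ = g₂ * b * g₂⁻¹ := by rw [hab]
      _ = v := by simp only [b]; group
  set w := g * v * g⁻¹ with hw
  have hvw : v * w = w * v := by
    rw [← hgx, hw, show g * x * g⁻¹ * (g * v * g⁻¹) = g * (x * v) * g⁻¹ by group, h.2.2.2]
    group
  have hw2 : Four v w := ⟨h.2.1, (orderOf_conj _ _).trans h.2.1,
    fun e => h.2.2.1 (mul_left_cancel (mul_right_cancel (hgx.trans e))), hvw⟩
  have hvT := hA.not_mem_torus h8 h.symm
  have hwT := hA.not_mem_torus h8 hw2
  have ht := hA.isTor_of_order_two h8 h.2.1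
  have hc := div_mem_torus ht ((hA.comm_iff h8 h.2.1).1 hvw)
    ((hA.comm_iff h8 h.2.1).1 h.symm.2.2.2) hwT hvT
  -- `w = x * c`
  set c := x⁻¹ * w with hcdef
  set m := Nat.card (torus v) / 2 with hm
  have hcardT := hA.card_torus_involution h8 h.2.1
  have hT : Nat.card (torus v) = 2 * m := by omega
  have hmodd : Odd m := Nat.odd_iff.2 (by omega)
  have hcT : c ^ (2 * m) = 1 := by
    rw [← hT]
    exact congrArg Subtype.val (pow_card_eq_one' (x := (⟨c, hc⟩ : torus v)))
  obtain ⟨r, hr⟩ := hmodd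
  have move : ∀ t ∈ torus v, t * w * t⁻¹ = x * (c * (t⁻¹ * t⁻¹)) := by
    intro t htm
    have hinv := hA.four_inverts h8 h.symm (inv_mem htm)
    rw [inv_inv] at hinv
    have hcomm := torus_comm ht hc (inv_mem htm)
    calc t * w * t⁻¹ = (x * t⁻¹ * x⁻¹) * (x * c) * t⁻¹ := by
          rw [hinv, hcdef, mul_inv_cancel_left]
      _ = x * (t⁻¹ * c) * t⁻¹ := by group
      _ = _ := by rw [← hcomm]; group
  have hcm : c ^ m * c ^ m = 1 := by rw [← pow_add, ← two_mul, hcT]
  rcases hA.eq_of_torus h8 h.2.1 (pow_mem hc m) hcm with e | e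
  · exfalso
    set t := (c ^ (r + 1)) with ht'
    have htm : t ∈ torus v := pow_mem hc _
    have e1 : c * c⁻¹ = 1 := mul_inv_cancel c
    have e2 : t * w * t⁻¹ = x := by
      rw [move t htm]
      have : t * t = c := by
        rw [ht', ← pow_add, show r + 1 + (r + 1) = m + 1 by omega, pow_succ, e, one_mul]
      rw [← _root_.mul_inv_rev, this, e1, mul_one]
    refine hA.no_swap h8 h (y := t * g) ?_ ?_
    · rw [show t * g * x * (t * g)⁻¹ = t * (g * x * g⁻¹) * t⁻¹ by group, hgx,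
        torus_comm ht htm (self_mem_torus v), mul_inv_cancel_right]
    · rw [show t * g * v * (t * g)⁻¹ = t * (g * v * g⁻¹) * t⁻¹ by group, ← hw, e2]
  · refine ⟨(c ^ (r + 1)) * g, ?_, ?_⟩
    · rw [show c ^ (r + 1) * g * x * (c ^ (r + 1) * g)⁻¹ = c ^ (r + 1) * (g * x * g⁻¹) * (c ^ (r + 1))⁻¹
        by group, hgx, torus_comm ht (pow_mem hc _) (self_mem_torus v), mul_inv_cancel_right]
    · rw [show c ^ (r + 1) * g * v * (c ^ (r + 1) * g)⁻¹ = c ^ (r + 1) * (g * v * g⁻¹) * (c ^ (r + 1))⁻¹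
        by group, ← hw, move _ (pow_mem hc _)]
      congr 1
      have e3 : c ^ (r + 1) * c ^ (r + 1) = v * c := by
        rw [← pow_add, show r + 1 + (r + 1) = m + 1 by omega, pow_succ, e]
      rw [← _root_.mul_inv_rev, e3, _root_.mul_inv_rev, ← mul_assoc, mul_inv_cancel, one_mul,
        inv_eq_self_of_sq (mul_self_of_order_two h.2.1)]

theorem card_cyc {x v : PSL(2, F)} (h : Four x v) : (cyc x v).ncard = 4 := by
  obtain ⟨y₀, hy₀, hy₀'⟩ := hA.exists_cyc h8 h
  rw [← hA.card_fourSet h8 h]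
  symm
  refine Set.ncard_congr (fun a _ => y₀ * a) ?_ (fun a b _ _ e => mul_left_cancel e) ?_
  · intro a ha
    obtain ⟨e1, e2⟩ := (hA.mem_centraliser_four h8 h).1 ha
    constructor
    · rw [show y₀ * a * x * (y₀ * a)⁻¹ = y₀ * (a * x * a⁻¹) * y₀⁻¹ by group,
        comm_iff_conj.1 e1.symm, hy₀]
    · rw [show y₀ * a * v * (y₀ * a)⁻¹ = y₀ * (a * v * a⁻¹) * y₀⁻¹ by group,
        comm_iff_conj.1 e2.symm, hy₀']
  · rintro y ⟨h1, h2⟩
    refine ⟨y₀⁻¹ * y, (hA.mem_centraliser_four h8 h).2 ⟨?_, ?_⟩, mul_inv_cancel_left _ _⟩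
    · refine (comm_iff_conj.2 ?_).symm
      rw [show y₀⁻¹ * y * x * (y₀⁻¹ * y)⁻¹ = y₀⁻¹ * (y * x * y⁻¹) * y₀ by group, h1, ← hy₀]
      group
    · refine (comm_iff_conj.2 ?_).symm
      rw [show y₀⁻¹ * y * v * (y₀⁻¹ * y)⁻¹ = y₀⁻¹ * (y * v * y⁻¹) * y₀ by group, h2, ← hy₀']
      group

theorem fourN_cases {x v y : PSL(2, F)} (h : Four x v) (hy : y ∈ fourN x v) :
    y ∈ fourSet x v ∨ y ∈ cyc x v ∨ y ∈ cyc x (x * v) := by
  rw [fourN, Subgroup.mem_set_normalizer_iff] at hy
  have hx' := (hy x).1 (by simp [fourSet])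
  have hv' := (hy v).1 (by simp [fourSet])
  have hxv' : y * (x * v) * y⁻¹ = y * x * y⁻¹ * (y * v * y⁻¹) := by group
  have hne : ∀ a, a ≠ 1 → y * a * y⁻¹ ≠ 1 := fun a ha e =>
    ha (by rwa [mul_inv_eq_one, mul_eq_left] at e)
  have hx1 := hne x (ne_one_of_order_two h.1)
  have hv1 := hne v (ne_one_of_order_two h.2.1)
  have hinj : y * x * y⁻¹ ≠ y * v * y⁻¹ := fun e =>
    h.2.2.1 (mul_left_cancel (mul_right_cancel e))
  simp only [fourSet, Set.mem_insert_iff, Set.mem_singleton_iff] at hx' hv'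
  rcases hx'.resolve_left hx1 with ex | ex | ex
  · rcases hv'.resolve_left hv1 with ev | ev | ev
    · exact absurd (ex.trans ev.symm) hinj
    · exact Or.inl ((hA.mem_centraliser_four h8 h).2
        ⟨(comm_iff_conj.2 ex).symm, (comm_iff_conj.2 ev).symm⟩)
    · exfalso
      refine hA.no_swap h8 (Four.mul_right h.symm) (y := y) ?_ ?_
      · rw [ev, h.2.2.2]
      · rw [show y * (v * x) * y⁻¹ = (y * v * y⁻¹) * (y * x * y⁻¹) by group, ex, ev, h.2.2.2,
          mul_assoc, mul_self_of_order_two h.1, mul_one]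
  · rcases hv'.resolve_left hv1 with ev | ev | ev
    · exact absurd ev fun e => hA.no_swap h8 h ex e
    · exact absurd (ex.trans ev.symm) hinj
    · exact Or.inr (Or.inl ⟨ex, ev⟩)
  · refine Or.inr (Or.inr ⟨ex, ?_⟩)
    rcases hv'.resolve_left hv1 with ev | ev | ev
    · rw [hxv', ex, ev, ← mul_assoc x x v, mul_self_of_order_two h.1, one_mul, h.2.2.2, mul_assoc,
        mul_self_of_order_two h.1, mul_one]
    · exfalso
      refine hA.no_swap h8 h.mul_right (y := y) ex ?_
      rw [hxv', ex, ev, mul_assoc, mul_self_of_order_two h.2.1, mul_one]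
    · exact absurd (ex.trans ev.symm) hinj

theorem cyc_mul_right_subset {x v : PSL(2, F)} (h : Four x v) :
    cyc x (x * v) ⊆ fourN x v := by
  have := cyc_subset_fourN h.mul_right
  rwa [fourN, fourSet_mul_right h] at this

theorem fourSet_subset_fourN {x v : PSL(2, F)} (h : Four x v) : fourSet x v ⊆ fourN x v := by
  intro a ha
  obtain ⟨e1, e2⟩ := (hA.mem_centraliser_four h8 h).1 ha
  refine mem_fourN_of_conj ?_
  rw [show a * (x * v) * a⁻¹ = (a * x * a⁻¹) * (a * v * a⁻¹) by group, comm_iff_conj.1 e1.symm,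
    comm_iff_conj.1 e2.symm]

theorem card_fourN {x v : PSL(2, F)} (h : Four x v) : Nat.card (fourN x v) = 12 := by
  have e : (fourN x v : Set PSL(2, F)) = fourSet x v ∪ cyc x v ∪ cyc x (x * v) := by
    ext y
    constructor
    · intro hy
      rcases hA.fourN_cases h8 h hy with e | e | e
      · exact Or.inl (Or.inl e)
      · exact Or.inl (Or.inr e)
      · exact Or.inr e
    · rintro ((e | e) | e)
      · exact hA.fourSet_subset_fourN h8 h e
      · exact cyc_subset_fourN h e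
      · exact hA.cyc_mul_right_subset h8 h e
  rw [← SetLike.coe_sort_coe, Nat.card_coe_set_eq, e, Set.ncard_union_eq, Set.ncard_union_eq,
    hA.card_fourSet h8 h, hA.card_cyc h8 h, hA.card_cyc h8 h.mul_right]
  · rw [Set.disjoint_left]
    intro y hy hy'
    have := ((hA.mem_centraliser_four h8 h).1 hy).1
    exact h.2.2.1 ((comm_iff_conj.1 this.symm).symm.trans hy'.1)
  · rw [Set.disjoint_union_left, Set.disjoint_left, Set.disjoint_left]
    refine ⟨fun y hy hy' => ?_, fun y hy hy' => ?_⟩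
    · have := ((hA.mem_centraliser_four h8 h).1 hy).1
      exact ne_one_of_order_two h.2.1 (mul_eq_left.1 ((comm_iff_conj.1 this.symm).symm.trans hy'.1).symm)
    · exact ne_one_of_order_two h.1 (mul_eq_right.1 (hy.1.symm.trans hy'.1).symm)

theorem isSolvable_fourN {x v : PSL(2, F)} (h : Four x v) : Group.IsSolvable ↥(fourN x v) :=
  isSolvable_of_card_twelve (Or.inl (hA.card_fourN h8 h))

theorem pow_three_cyc {x v y : PSL(2, F)} (h : Four x v) (hy : y ∈ cyc x v) :
    y ^ 3 = 1 ∧ y ≠ 1 := by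
  obtain ⟨h1, h2⟩ := hy
  have h3 : y * (x * v) * y⁻¹ = x := by
    rw [show y * (x * v) * y⁻¹ = (y * x * y⁻¹) * (y * v * y⁻¹) by group, h1, h2, ← mul_assoc,
      ← h.2.2.2, mul_assoc, mul_self_of_order_two h.2.1, mul_one]
  have c1 : y ^ 3 * x * (y ^ 3)⁻¹ = x := by
    rw [show y ^ 3 * x * (y ^ 3)⁻¹ = y * (y * (y * x * y⁻¹) * y⁻¹) * y⁻¹ by
      rw [pow_succ, pow_two]; group, h1, h2, h3]
  have c2 : y ^ 3 * v * (y ^ 3)⁻¹ = v := by
    rw [show y ^ 3 * v * (y ^ 3)⁻¹ = y * (y * (y * v * y⁻¹) * y⁻¹) * y⁻¹ by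
      rw [pow_succ, pow_two]; group, h2, h3, h1]
  have hm := hA.mem_fourSet_of_comm h8 h (comm_iff_conj.2 c1).symm (comm_iff_conj.2 c2).symm
  have hfix : y * y ^ 3 * y⁻¹ = y ^ 3 := by group
  refine ⟨?_, fun e => h.2.2.1 (by simpa [e] using h1)⟩
  simp only [fourSet, Set.mem_insert_iff, Set.mem_singleton_iff] at hm
  rcases hm with e | e | e | e
  · exact e
  · rw [e, h1] at hfix; exact absurd hfix.symm h.2.2.1
  · rw [e, h2] at hfix; exact absurd (mul_eq_right.1 hfix) (ne_one_of_order_two h.1)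
  · rw [e, h3] at hfix; exact absurd (mul_eq_left.1 hfix.symm) (ne_one_of_order_two h.2.1)

end Reps

end CfsgLib.PSL2Solv
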