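import Cfsg.Agent.PSL2Solv.Fours
import Cfsg.Agent.SuzukiLocal.GoodTorus
import Cfsg.Agent.SuzukiLocal.Solubilizer

/-!
# Solubilizers in `PSL(2, q)`, `q` a power of `3` congruent to `3` modulo `8`
-/

set_option autoImplicit false
set_option linter.unusedSectionVars false

namespace CfsgLib.PSL2Solv

open Matrix CfsgLib.SL2Trace CfsgLib.DicksonPSL2
open CfsgLib.SuzukiLocal (solSet)
open scoped MatrixGroups

variable {F : Type*} [Field F] [Fintype F]

theorem Four.conj {x v : PSL(2, F)} (h : Four x v) (g : PSL(2, F)) :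
    Four (g * x * g⁻¹) (g * v * g⁻¹) := by
  obtain ⟨hx, hv, hne, hc⟩ := h
  refine ⟨(orderOf_conj g x).trans hx, (orderOf_conj g v).trans hv,
    fun e => hne (mul_left_cancel (mul_right_cancel e)), ?_⟩
  rw [show g * x * g⁻¹ * (g * v * g⁻¹) = g * (x * v) * g⁻¹ by group, hc]
  group

/-- The involutions `v` such that `x` normalises a four-group through `v`. -/
def fourInv (x : PSL(2, F)) : Set PSL(2, F) := {v | Four v (x * v * x⁻¹)}

theorem ncard_fourInv_conj (g x : PSL(2, F)) :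
    (fourInv (g * x * g⁻¹)).ncard = (fourInv x).ncard := by
  symm
  refine Set.ncard_congr (fun v _ => g * v * g⁻¹) ?_
    (fun a b _ _ e => mul_left_cancel (mul_right_cancel e)) ?_
  · intro v hv
    show Four _ _
    rw [show g * x * g⁻¹ * (g * v * g⁻¹) * (g * x * g⁻¹)⁻¹ = g * (x * v * x⁻¹) * g⁻¹ by group]
    exact hv.conj g
  · intro w hw
    refine ⟨g⁻¹ * w * g, ?_, by group⟩
    have := Four.conj hw g⁻¹
    show Four _ _
    rwa [show g⁻¹ * (g * x * g⁻¹ * w * (g * x * g⁻¹)⁻¹) * g⁻¹⁻¹ = x * (g⁻¹ * w * g) * x⁻¹ by group,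
      show g⁻¹ * w * g⁻¹⁻¹ = g⁻¹ * w * g by group] at this

theorem fourInv_inv (x : PSL(2, F)) : fourInv x⁻¹ = fourInv x := by
  have key : ∀ y : PSL(2, F), fourInv y ⊆ fourInv y⁻¹ := by
    intro y v hv
    have := (Four.conj hv y⁻¹).symm
    show Four _ _
    rwa [show y⁻¹ * (y * v * y⁻¹) * y⁻¹⁻¹ = v by group] at this
  exact Set.Subset.antisymm (by simpa using key x⁻¹) (key x)

section CharThree

variable [CharP F 3]

theorem isTor_iff_cube (x : PSL(2, F)) : IsTor x ↔ x ^ 3 ≠ 1 := by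
  have : Fact (Nat.Prime 3) := ⟨Nat.prime_three⟩
  exact isTor_iff_pow 3 x

theorem not_isTor_of_order_three {x : PSL(2, F)} (h : orderOf x = 3) : x ≠ 1 ∧ ¬ IsTor x :=
  ⟨fun e => by rw [e, orderOf_one] at h; omega,
    fun t => (isTor_iff_cube x).1 t (h ▸ pow_orderOf_eq_one x)⟩

theorem card_order_three :
    Nat.card {x : PSL(2, F) // orderOf x = 3} = (Fintype.card F + 1) * (Fintype.card F - 1) := by
  classical
  have h1 := fun x : {x : PSL(2, F) // orderOf x = 3} => not_isTor_of_order_three x.2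
  have : Fintype (Pt F) := Fintype.ofFinite _
  have : Fact (Nat.Prime 3) := ⟨Nat.prime_three⟩
  have hpt : ∀ p : Pt F,
      Nat.card {x : PSL(2, F) // x • p = p ∧ orderOf x = 3} = Fintype.card F - 1 := by
    intro p
    obtain ⟨g, rfl⟩ := exists_smul_base p
    rw [← Nat.card_eq_fintype_card, ← Nat.card_units]
    symm
    refine Nat.card_eq_of_bijective (fun w : Fˣ => ⟨g * u (w : F) * g⁻¹,
      conj_smul_fix ((smul_base_iff _).2 (u_mem_BP _)),
      (orderOf_conj g _).trans (orderOf_eq_prime (by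
        by_contra hne; exact not_isTor_u _ ((isTor_iff_cube _).2 hne)) (u_ne_one w.ne_zero))⟩) ⟨?_, ?_⟩
    · intro v w h
      exact Units.ext (u_injective (mul_left_cancel (mul_right_cancel (congrArg Subtype.val h))))
    · rintro ⟨x, hx, hx3⟩
      obtain ⟨h1', h2'⟩ := not_isTor_of_order_three hx3
      have h := conj_smul_fix (k := g⁻¹) hx
      rw [inv_smul_smul, smul_base_iff] at h
      obtain ⟨w, hw⟩ := chi_eq_one_of_not_isTor h (fun t => h2' ((isTor_conj_iff g⁻¹ x).1 t))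
      have hw0 : w ≠ 0 := fun e => h1' (by rwa [e, u_zero, conj_eq_one_iff] at hw)
      refine ⟨Units.mk0 w hw0, Subtype.ext ?_⟩
      show g * u w * g⁻¹ = x
      rw [← hw]; group
  have e : {x : PSL(2, F) // orderOf x = 3} ≃
      Σ p : Pt F, {x : PSL(2, F) // x • p = p ∧ orderOf x = 3} :=
    { toFun := fun x => ⟨(existsUnique_fixed (h1 x).2 (h1 x).1).choose, x,
        (existsUnique_fixed (h1 x).2 (h1 x).1).choose_spec.1, x.2⟩
      invFun := fun z => ⟨z.2.1, z.2.2.2⟩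
      left_inv := fun x => rfl
      right_inv := fun z => Sigma.subtype_ext
        (((existsUnique_fixed (h1 ⟨z.2.1, z.2.2.2⟩).2 (h1 ⟨z.2.1, z.2.2.2⟩).1).choose_spec.2
          z.1 z.2.2.1).symm) rfl }
  rw [Nat.card_congr e, Nat.card_sigma, Finset.sum_congr rfl (fun p _ => hpt p), Finset.sum_const,
    Finset.card_univ, ← Nat.card_eq_fintype_card, card_Pt, smul_eq_mul]

theorem conj_order_three (h4 : Fintype.card F % 4 = 3) {x : PSL(2, F)} (h : orderOf x = 3) :
    ∃ g : PSL(2, F), x = g * u 1 * g⁻¹ ∨ x = g * (u 1)⁻¹ * g⁻¹ := by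
  obtain ⟨h1, h2⟩ := not_isTor_of_order_three h
  obtain ⟨a, w, ha⟩ := exists_conj_u h2
  have hw : w ≠ 0 := fun e => h1 (by rwa [e, u_zero, conj_eq_one_iff] at ha)
  have hsq : IsSquare w ∨ IsSquare (-w) := by
    classical
    by_contra! hn
    have hF : ringChar F ≠ 2 := by rw [ringChar.eq F 3]; omega
    have h1' := (quadraticChar_neg_one_iff_not_isSquare (a := w)).2 hn.1
    have h2' := (quadraticChar_neg_one_iff_not_isSquare (a := -w)).2 hn.2
    have h3' : quadraticChar F (-1) = -1 :=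
      quadraticChar_neg_one_iff_not_isSquare.2 (fun hs =>
        (FiniteField.isSquare_neg_one_iff.1 hs) h4)
    have := map_mul (quadraticChar F) (-1) w
    rw [neg_one_mul, h1', h2', h3'] at this
    norm_num at this
  have conjd : ∀ w' : F, w' ≠ 0 → IsSquare w' → ∃ k : PSL(2, F), k * u 1 * k⁻¹ = u w' := by
    rintro w' hw' ⟨s, hs⟩
    have hs0 : s ≠ 0 := fun e => hw' (by rw [hs, e, mul_zero])
    obtain ⟨g, hg⟩ : ∃ g : SL(2, F), g.1 = !![s, 0; 0, s⁻¹] :=
      ⟨⟨!![s, 0; 0, s⁻¹], by simp [Matrix.det_fin_two, hs0]⟩, rfl⟩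
    have hgB : proj g ∈ BP (F := F) := (proj_mem_BP_iff g).2 (by simp [hg])
    refine ⟨proj g, ?_⟩
    rw [conj_u hgB, chi_proj, hg]
    simp [hs, pow_two]
  rcases hsq with hsq | hsq
  · obtain ⟨k, hk⟩ := conjd w hw hsq
    refine ⟨a⁻¹ * k, Or.inl ?_⟩
    calc x = a⁻¹ * (a * x * a⁻¹) * a := by group
      _ = a⁻¹ * (k * u 1 * k⁻¹) * a := by rw [ha, hk]
      _ = _ := by group
  · obtain ⟨k, hk⟩ := conjd (-w) (neg_ne_zero.2 hw) hsq
    refine ⟨a⁻¹ * k, Or.inr ?_⟩
    rw [u_neg] at hk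
    calc x = a⁻¹ * (a * x * a⁻¹) * a := by group
      _ = a⁻¹ * (k * u 1 * k⁻¹)⁻¹ * a := by rw [ha, hk, inv_inv]
      _ = _ := by group

namespace Reps

variable {A : Fin 2 → Subgroup PSL(2, F)} (hA : Reps A) (h8 : Fintype.card F % 8 = 3)
include hA h8

theorem no_fixed_involution {x : PSL(2, F)} (h : orderOf x = 2) (p : Pt F) : x • p ≠ p := by
  obtain ⟨g, hg⟩ := hA.exists_conj_one h8 h
  exact hA.no_fixed (ne_one_of_order_two h) hg p

theorem card_sq_one (i : Fin 2) :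
    {a : PSL(2, F) | a ∈ A i ∧ a * a = 1}.ncard = (i : ℕ) + 1 := by
  rcases Fin.exists_fin_two.1 ⟨i, rfl⟩ with rfl | rfl
  · have : {a : PSL(2, F) | a ∈ A 0 ∧ a * a = 1} = {1} := by
      ext a
      refine ⟨fun ⟨ha, ha2⟩ => ?_, fun e => by rw [e]; exact ⟨one_mem _, one_mul 1⟩⟩
      by_contra hne
      have := (A 0).orderOf_dvd_natCard ha
      rw [order_two_of_mul_self ha2 hne] at this
      have h0 := (hA.card_A_odd h8).1
      obtain ⟨r, hr⟩ := this
      omega
    rw [this, Set.ncard_singleton]; rfl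
  · have : Fact (Nat.Prime 2) := ⟨Nat.prime_two⟩
    obtain ⟨z, hz⟩ := exists_prime_orderOf_dvd_card' (G := A 1) 2
      (by have := (hA.card_A_odd h8).2.1; omega)
    have hz2 : orderOf (z : PSL(2, F)) = 2 := (Subgroup.orderOf_coe z).trans hz
    have hT := (hA.torus_eq z.2 (ne_one_of_order_two hz2)).2
    have : {a : PSL(2, F) | a ∈ A 1 ∧ a * a = 1} = {1, (z : PSL(2, F))} := by
      ext a
      refine ⟨fun ⟨ha, ha2⟩ => hA.eq_of_torus h8 hz2 (by rw [hT]; exact ha) ha2, ?_⟩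
      rintro (e | e) <;> rw [e]
      · exact ⟨one_mem _, one_mul 1⟩
      · exact ⟨z.2, mul_self_of_order_two hz2⟩
    rw [this, Set.ncard_pair (ne_one_of_order_two hz2).symm]; rfl

theorem card_order_two_normalizer (i : Fin 2) :
    Nat.card {y : PSL(2, F) // y ∈ Subgroup.normalizer (A i : Set PSL(2, F)) ∧ orderOf y = 2} =
      Nat.card (A i) + (i : ℕ) := by
  classical
  have hle : (A i : Set PSL(2, F)) ⊆ Subgroup.normalizer (A i : Set PSL(2, F)) :=
    Subgroup.le_normalizer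
  have hset : {y : PSL(2, F) | y ∈ Subgroup.normalizer (A i : Set PSL(2, F)) ∧ orderOf y = 2} =
      ((Subgroup.normalizer (A i : Set PSL(2, F)) : Set PSL(2, F)) \ A i) ∪
        ({a : PSL(2, F) | a ∈ A i ∧ a * a = 1} \ {1}) := by
    ext y
    constructor
    · rintro ⟨hy, h2⟩
      by_cases hyA : y ∈ A i
      · exact Or.inr ⟨⟨hyA, mul_self_of_order_two h2⟩, ne_one_of_order_two h2⟩
      · exact Or.inl ⟨hy, hyA⟩
    · rintro (⟨hy, hyA⟩ | ⟨⟨hyA, h2⟩, h1⟩)
      · exact ⟨hy, order_two_of_mul_self (hA.inverts hy hyA).1 fun e => hyA (e ▸ one_mem _)⟩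
      · exact ⟨hle hyA, order_two_of_mul_self h2 h1⟩
  rw [← Set.coe_ofPred, Nat.card_coe_set_eq, hset, Set.ncard_union_eq
    (Set.disjoint_left.2 fun y hy hy' => hy.2 hy'.1.1), Set.ncard_sdiff hle,
    Set.ncard_sdiff (by rintro _ rfl; exact ⟨one_mem _, one_mul 1⟩), hA.card_sq_one h8 i,
    Set.ncard_singleton]
  have h1 := hA.card_normalizer i
  rw [← Nat.card_coe_set_eq, ← Nat.card_coe_set_eq, SetLike.coe_sort_coe, SetLike.coe_sort_coe, h1]
  omega

theorem card_involutions_odd :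
    Nat.card {x : PSL(2, F) // orderOf x = 2} =
      (Subgroup.normalizer (A 1 : Set PSL(2, F))).index := by
  classical
  have h1 := fun x : {x : PSL(2, F) // orderOf x = 2} => hA.exists_conj_one h8 x.2
  refine Nat.card_eq_of_bijective (fun x : {x : PSL(2, F) // orderOf x = 2} =>
    (QuotientGroup.mk (h1 x).choose :
      PSL(2, F) ⧸ Subgroup.normalizer (A 1 : Set PSL(2, F)))) ⟨?_, ?_⟩
  · intro x y e
    simp only at e
    have hx := (h1 x).choose_spec
    have hy := (h1 y).choose_spec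
    have e' : (x : PSL(2, F)) • (QuotientGroup.mk (h1 y).choose :
        PSL(2, F) ⧸ Subgroup.normalizer (A 1 : Set PSL(2, F))) = QuotientGroup.mk (h1 y).choose := by
      rw [← e]
      exact (smul_mk_iff _ _ _).2 (Subgroup.le_normalizer hx)
    have hTy := (hA.torus_conj_eq (ne_one_of_order_two y.2) hy).2
    set g := (h1 x).choose
    set g' := (h1 y).choose
    have hn : g⁻¹ * g' ∈ Subgroup.normalizer (A 1 : Set PSL(2, F)) := QuotientGroup.eq.1 e
    have hmem : (x : PSL(2, F)) ∈ torus (y : PSL(2, F)) := by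
      rw [hTy, mem_conjS, show g'⁻¹ * (x : PSL(2, F)) * g' =
        (g⁻¹ * g')⁻¹ * (g⁻¹ * x * g) * (g⁻¹ * g') by group]
      exact (Subgroup.mem_normalizer_iff''.1 hn _).1 hx
    rcases hA.eq_of_torus h8 y.2 hmem (mul_self_of_order_two x.2) with h | h
    · exact absurd h (ne_one_of_order_two x.2)
    · exact Subtype.ext h
  · intro c
    obtain ⟨g, rfl⟩ := QuotientGroup.mk_surjective c
    have : Fact (Nat.Prime 2) := ⟨Nat.prime_two⟩
    obtain ⟨z, hz⟩ := exists_prime_orderOf_dvd_card' (G := A 1) 2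
      (by have := (hA.card_A_odd h8).2.1; omega)
    have hz2 : orderOf (g * (z : PSL(2, F)) * g⁻¹) = 2 := by
      rw [orderOf_conj]; exact (Subgroup.orderOf_coe z).trans hz
    refine ⟨⟨_, hz2⟩, hA.mk_eq (ne_one_of_order_two hz2) (h1 ⟨_, hz2⟩).choose_spec ?_⟩
    rw [show g⁻¹ * (g * (z : PSL(2, F)) * g⁻¹) * g = z by group]
    exact z.2

theorem two_mul_card_involutions :
    2 * Nat.card {x : PSL(2, F) // orderOf x = 2} = Fintype.card F * (Fintype.card F - 1) := by
  rw [hA.card_involutions_odd h8]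
  have hG := card_PSL_formula F
  obtain ⟨-, h1, hd⟩ := hA.card_A_odd h8
  rw [hd, ← Subgroup.card_mul_index (Subgroup.normalizer (A 1 : Set PSL(2, F))),
    hA.card_normalizer 1, h1] at hG
  refine Nat.eq_of_mul_eq_mul_left (show 0 < Fintype.card F + 1 by omega) ?_
  linear_combination hG

theorem card_fixed_odd {x : PSL(2, F)} (hx : orderOf x = 2) (i : Fin 2) :
    2 * Nat.card (MulAction.fixedBy (PSL(2, F) ⧸ Subgroup.normalizer (A i : Set PSL(2, F))) x) =
      Fintype.card F + 1 + 2 * (i : ℕ) := by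
  set N := Subgroup.normalizer (A i : Set PSL(2, F)) with hN
  have hconst : ∀ y : PSL(2, F), orderOf y = 2 →
      Nat.card (MulAction.fixedBy (PSL(2, F) ⧸ N) y) =
        Nat.card (MulAction.fixedBy (PSL(2, F) ⧸ N) x) := by
    intro y hy
    obtain ⟨g₁, hg₁⟩ := hA.exists_conj_one h8 hx
    obtain ⟨g₂, hg₂⟩ := hA.exists_conj_one h8 hy
    have ha2 : orderOf (g₁⁻¹ * x * g₁) = 2 := (orderOf_conj' _ _).trans hx
    have hb2 : orderOf (g₂⁻¹ * y * g₂) = 2 := (orderOf_conj' _ _).trans hy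
    have hab : g₂⁻¹ * y * g₂ = g₁⁻¹ * x * g₁ := by
      rcases hA.eq_of_torus h8 ha2 ((hA.torus_eq hg₁ (ne_one_of_order_two ha2)).2 ▸ hg₂)
        (mul_self_of_order_two hb2) with e | e
      · exact absurd e (ne_one_of_order_two hb2)
      · exact e
    obtain ⟨g, rfl⟩ : ∃ g, y = g * x * g⁻¹ := ⟨g₂ * g₁⁻¹, by
      rw [show g₂ * g₁⁻¹ * x * (g₂ * g₁⁻¹)⁻¹ = g₂ * (g₁⁻¹ * x * g₁) * g₂⁻¹ by group, ← hab]
      group⟩
    refine Nat.card_congr ((MulAction.toPerm g⁻¹).subtypeEquiv fun c => ?_)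
    show (g * x * g⁻¹) • c = c ↔ x • (g⁻¹ • c) = g⁻¹ • c
    rw [mul_smul, mul_smul, smul_eq_iff_eq_inv_smul]
  have h := CfsgLib.SuzukiLocal.sum_fixedBy_quotient N (fun y => orderOf y = 2) _
    (fun g y hy => (orderOf_conj g y).trans hy) hconst
  rw [hA.card_order_two_normalizer h8 i] at h
  have hI := hA.two_mul_card_involutions h8
  have hG := card_PSL_formula F
  obtain ⟨h0, h1, hd⟩ := hA.card_A_odd h8
  rw [hd, ← Subgroup.card_mul_index N, hA.card_normalizer i] at hG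
  have h2 := Fintype.one_lt_card (α := F)
  obtain ⟨t, ht⟩ : ∃ t, Fintype.card F = t + 2 := ⟨Fintype.card F - 2, by omega⟩
  rw [ht] at hI hG h0 h1 ⊢
  simp only [show t + 2 - 1 = t + 1 by omega] at hI hG h0 h1
  have hX : 0 < (t + 2) * (t + 1) := by positivity
  rcases Fin.exists_fin_two.1 ⟨i, rfl⟩ with e | e <;> subst e
  · refine Nat.eq_of_mul_eq_mul_left hX ?_
    simp only [Fin.val_zero, add_zero, mul_zero] at *
    linear_combination 4 * h - 2 * Nat.card (MulAction.fixedBy (PSL(2, F) ⧸ N) x) * hI + hG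
  · have hidx : 2 * N.index = (t + 2) * (t + 1) := by
      refine Nat.eq_of_mul_eq_mul_left (show 0 < 2 * Nat.card (A 1) by omega) ?_
      rw [h1] at hG ⊢
      linear_combination hG
    refine Nat.eq_of_mul_eq_mul_left hX ?_
    simp only [Fin.val_one, mul_one] at *
    linear_combination 4 * h - 2 * Nat.card (MulAction.fixedBy (PSL(2, F) ⧸ N) x) * hI + hG + 2 * hidx

theorem solv_iff_odd {x y : PSL(2, F)} (hx : x ≠ 1) :
    Group.IsSolvable ↥(Subgroup.closure ({x, y} : Set PSL(2, F))) ↔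
      (∃ p : Pt F, x • p = p ∧ y • p = p) ∨
      (∃ (i : Fin 2) (c : PSL(2, F) ⧸ Subgroup.normalizer (A i : Set PSL(2, F))),
        x • c = c ∧ y • c = c) ∨
      ∃ a b : PSL(2, F), Four a b ∧ x ∈ fourN a b ∧ y ∈ fourN a b := by
  constructor
  · intro hs
    set H := Subgroup.closure ({x, y} : Set PSL(2, F))
    have hxH : x ∈ H := Subgroup.subset_closure (by simp)
    have hyH : y ∈ H := Subgroup.subset_closure (by simp)
    have : Nontrivial H := ⟨⟨x, hxH⟩, 1, fun e => hx (congrArg Subtype.val e)⟩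
    obtain ⟨N₀, hN₀, hNb, hcomm⟩ := CfsgLib.SuzukiLocal.exists_normal_comm_ne_bot (G := H)
    obtain ⟨N, hNdef⟩ : ∃ N, N = N₀.map H.subtype := ⟨_, rfl⟩
    have hNH : ∀ h ∈ H, ∀ z ∈ N, h * z * h⁻¹ ∈ N := by
      subst hNdef
      rintro h hh _ ⟨w, hw, rfl⟩; exact ⟨_, hN₀.conj_mem w hw ⟨h, hh⟩, rfl⟩
    have hNc : ∀ v ∈ N, ∀ w ∈ N, v * w = w * v := by
      subst hNdef
      rintro _ ⟨v, hv, rfl⟩ _ ⟨w, hw, rfl⟩; exact congrArg Subtype.val (hcomm v hv w hw)
    obtain ⟨z, hz, hz1⟩ : ∃ z ∈ N, z ≠ 1 := by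
      obtain ⟨z, hz, hz1⟩ : ∃ z ∈ N₀, z ≠ 1 := by
        by_contra! h
        exact hNb ((Subgroup.eq_bot_iff_forall N₀).2 h)
      exact ⟨z, hNdef ▸ ⟨z, hz, rfl⟩, fun e => hz1 (Subtype.ext e)⟩
    by_cases hgood : ∃ w ∈ N, w ≠ 1 ∧ (¬ IsTor w ∨ w * w ≠ 1)
    · obtain ⟨w, hw, hw1, hw'⟩ := hgood
      rcases hA.abelian_normal_cases hNH hNc hw hw1 hw' with ⟨p, hp⟩ | ⟨i, c, hc⟩
      · exact Or.inl ⟨p, hp x hxH, hp y hyH⟩
      · exact Or.inr (Or.inl ⟨i, c, hc x hxH, hc y hyH⟩)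
    push Not at hgood
    have hz2 : orderOf z = 2 := order_two_of_mul_self (hgood z hz hz1).2 hz1
    by_cases hN2 : ∃ w ∈ N, w ≠ 1 ∧ w ≠ z
    · obtain ⟨w, hw, hw1, hwz⟩ := hN2
      have hF : Four z w :=
        ⟨hz2, order_two_of_mul_self (hgood w hw hw1).2 hw1, fun e => hwz e.symm, hNc z hz w hw⟩
      have hNS : (N : Set PSL(2, F)) = fourSet z w := by
        ext a
        refine ⟨fun ha => hA.mem_fourSet_of_comm h8 hF (hNc z hz a ha) (hNc w hw a ha), ?_⟩
        simp only [fourSet, Set.mem_insert_iff, Set.mem_singleton_iff]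
        rintro (rfl | rfl | rfl | rfl)
        exacts [N.one_mem, hz, hw, N.mul_mem hz hw]
      have hmem : ∀ h ∈ H, h ∈ fourN z w := by
        intro h hh
        rw [fourN, ← hNS, Subgroup.mem_set_normalizer_iff]
        refine fun a => ⟨fun ha => hNH h hh a ha, fun ha => ?_⟩
        have := hNH h⁻¹ (inv_mem hh) _ ha
        rwa [show h⁻¹ * (h * a * h⁻¹) * h⁻¹⁻¹ = a by group] at this
      exact Or.inr (Or.inr ⟨z, w, hF, hmem x hxH, hmem y hyH⟩)
    · push Not at hN2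
      obtain ⟨g, hg⟩ := hA.exists_conj_one h8 hz2
      have hc : ∀ h ∈ H, h • (QuotientGroup.mk g :
          PSL(2, F) ⧸ Subgroup.normalizer (A 1 : Set PSL(2, F))) = QuotientGroup.mk g := by
        intro h hh
        have e : h * z * h⁻¹ = z := hN2 _ (hNH h hh z hz)
          (fun e => hz1 (by rwa [mul_inv_eq_one, mul_eq_left] at e))
        rw [smul_mk_iff]
        refine hA.mem_normalizer hg (conj_ne_one hz1) ?_
        rw [show g⁻¹ * h * g * (g⁻¹ * z * g) * (g⁻¹ * h * g)⁻¹ = g⁻¹ * (h * z * h⁻¹) * g by group, e]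
        exact hg
      exact Or.inr (Or.inl ⟨1, _, hc x hxH, hc y hyH⟩)
  · intro h
    suffices ∃ K : Subgroup PSL(2, F), Group.IsSolvable K ∧ x ∈ K ∧ y ∈ K by
      obtain ⟨K, hK, h1, h2⟩ := this
      have hle : Subgroup.closure {x, y} ≤ K := by
        rw [Subgroup.closure_le]
        rintro z (rfl | rfl)
        · exact h1
        · exact h2
      exact Group.isSolvable_of_isSolvable_injective (Subgroup.inclusion_injective hle)
    rcases h with ⟨p, h1, h2⟩ | ⟨i, c, h1, h2⟩ | ⟨a, b, hab, h1, h2⟩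
    · exact ⟨_, isSolvable_point p, h1, h2⟩
    · exact ⟨_, hA.isSolvable_coset i c, h1, h2⟩
    · exact ⟨_, hA.isSolvable_fourN h8 hab, h1, h2⟩

theorem fourN_order {a b y : PSL(2, F)} (h : Four a b) (hy : y ∈ fourN a b) :
    y * y = 1 ∨ y ^ 3 = 1 := by
  rcases hA.fourN_cases h8 h hy with e | e | e
  · left
    simp only [fourSet, Set.mem_insert_iff, Set.mem_singleton_iff] at e
    rcases e with rfl | rfl | rfl | rfl
    · exact one_mul 1
    · exact mul_self_of_order_two h.1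
    · exact mul_self_of_order_two h.2.1
    · exact mul_self_of_order_two h.mul_right.2.1
  · exact Or.inr (hA.pow_three_cyc h8 h e).1
  · exact Or.inr (hA.pow_three_cyc h8 h.mul_right e).1

theorem card_four_partners {x : PSL(2, F)} (hx : orderOf x = 2) :
    2 * {v : PSL(2, F) | Four x v}.ncard = Fintype.card F + 1 := by
  obtain ⟨g, hg⟩ := hA.exists_conj_one h8 hx
  obtain ⟨ht, eT⟩ := hA.torus_conj_eq (ne_one_of_order_two hx) hg
  set c : PSL(2, F) ⧸ Subgroup.normalizer (A 1 : Set PSL(2, F)) := QuotientGroup.mk g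
  have hset : {v : PSL(2, F) | Four x v} =
      (MulAction.stabilizer PSL(2, F) c : Set PSL(2, F)) \ (torus x : Set PSL(2, F)) := by
    ext v
    constructor
    · intro h
      refine ⟨(smul_mk_iff _ _ _).2 ?_, hA.not_mem_torus h8 h⟩
      have := (hA.comm_iff h8 hx).1 h.2.2.2
      rw [eT, mem_conjS] at this
      refine hA.mem_normalizer hg (conj_ne_one (ne_one_of_order_two hx)) ?_
      rwa [show g⁻¹ * v * g * (g⁻¹ * x * g) * (g⁻¹ * v * g)⁻¹ = g⁻¹ * (v * x * v⁻¹) * g by group]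
    · rintro ⟨hv, hvT⟩
      have hv' := (smul_mk_iff _ _ _).1 hv
      have hmem : v * x * v⁻¹ ∈ torus x := by
        rw [eT, mem_conjS, show g⁻¹ * (v * x * v⁻¹) * g =
          g⁻¹ * v * g * (g⁻¹ * x * g) * (g⁻¹ * v * g)⁻¹ by group]
        exact (Subgroup.mem_normalizer_iff.1 hv' _).1 hg
      have hc := (hA.comm_iff h8 hx).2 hmem
      obtain ⟨h2, -⟩ := (hA.comm_cases h8 hx hc).resolve_left hvT
      refine ⟨hx, order_two_of_mul_self h2 (fun e => hvT (e ▸ (torus x).one_mem)), ?_, hc⟩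
      rintro rfl
      exact hvT (self_mem_torus _)
  have hle : (torus x : Set PSL(2, F)) ⊆ MulAction.stabilizer PSL(2, F) c := by
    intro v hv
    refine (smul_mk_iff _ _ _).2 (Subgroup.le_normalizer ?_)
    rwa [eT, SetLike.mem_coe, mem_conjS] at hv
  rw [hset, Set.ncard_sdiff hle, ← Nat.card_coe_set_eq, ← Nat.card_coe_set_eq,
    SetLike.coe_sort_coe, SetLike.coe_sort_coe, hA.card_stab 1 c, eT, card_conjS]
  have := (hA.card_A_odd h8).2.1
  omega

end Reps

end CharThree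

end CfsgLib.PSL2Solv
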