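import Cfsg.Agent.PSL2Solv.Odd

/-!
# Sizes of solubilizers in `PSL(2, q)`, `q` a power of `3` congruent to `3` modulo `8`
-/

set_option autoImplicit false
set_option linter.unusedSectionVars false

namespace CfsgLib.PSL2Solv

open Matrix CfsgLib.SL2Trace CfsgLib.DicksonPSL2
open CfsgLib.SuzukiLocal (solSet)
open scoped MatrixGroups

variable {F : Type*} [Field F] [Fintype F] [CharP F 3]
variable {A : Fin 2 → Subgroup PSL(2, F)} (hA : Reps A) (h8 : Fintype.card F % 8 = 3)

namespace Reps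

include hA h8

theorem sol_torus_odd {i : Fin 2} {x g : PSL(2, F)} (hx : x ≠ 1) (hxx : x * x ≠ 1)
    (h : g⁻¹ * x * g ∈ A i) :
    solSet x = {y | ∃ p : Pt F, x • p = p ∧ y • p = p} ∪
      (MulAction.stabilizer PSL(2, F)
        (g : PSL(2, F) ⧸ Subgroup.normalizer (A i : Set PSL(2, F))) : Set PSL(2, F)) := by
  ext y
  show Group.IsSolvable ↥(Subgroup.closure ({x, y} : Set PSL(2, F))) ↔ _
  rw [hA.solv_iff_odd h8 hx]
  constructor
  · rintro (hp | ⟨j, c, h1, h2⟩ | ⟨a, b, hab, hxN, -⟩)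
    · exact Or.inl hp
    · exact Or.inr (hA.coset_eq hx hxx h h1 h2)
    · exfalso
      rcases hA.fourN_order h8 hab hxN with e | e
      · exact hxx e
      · exact (isTor_iff_cube x).1 (hA.torus_conj_eq hx h).1 e
  · rintro (hp | hy)
    · exact Or.inl hp
    · exact Or.inr (Or.inl ⟨i, g, (smul_mk_iff _ _ _).2 (Subgroup.le_normalizer h), hy⟩)

theorem card_sol_nonsplit_odd {x g : PSL(2, F)} (hx : x ≠ 1) (hxx : x * x ≠ 1)
    (h : g⁻¹ * x * g ∈ A 1) : (solSet x).ncard = Fintype.card F + 1 := by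
  have h0 : {y : PSL(2, F) | ∃ p : Pt F, x • p = p ∧ y • p = p} = ∅ :=
    Set.eq_empty_of_forall_notMem fun y ⟨p, hp, _⟩ => hA.no_fixed hx h p hp
  rw [hA.sol_torus_odd h8 hx hxx h, h0, Set.empty_union, ← Nat.card_coe_set_eq]
  exact (hA.card_stab 1 _).trans (hA.card_A_odd h8).2.1

theorem card_sol_split_odd (h4 : 4 ≤ Fintype.card F) {x g : PSL(2, F)} (hx : x ≠ 1) (hxx : x * x ≠ 1)
    (h : g⁻¹ * x * g ∈ A 0) :
    (solSet x).ncard = Fintype.card F * (Fintype.card F - 1) := by
  have := hA.card_split_union h4 hx hxx h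
  rw [(hA.card_A_odd h8).2.2, ← hA.sol_torus_odd h8 hx hxx h] at this
  omega

open scoped Classical in
theorem card_stab_diff {x : PSL(2, F)} (hx : orderOf x = 2) {i : Fin 2} {g : PSL(2, F)}
    (hxg : g⁻¹ * x * g ∈ Subgroup.normalizer (A i : Set PSL(2, F))) :
    ({y | y • (g : PSL(2, F) ⧸ Subgroup.normalizer (A i : Set PSL(2, F))) = g} \
        {y | x * y = y * x}).ncard =
      if g⁻¹ * x * g ∈ A i then 0 else Fintype.card F - 3 := by
  classical
  have hx1 := ne_one_of_order_two hx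
  split_ifs with hxA
  · rw [Set.ncard_eq_zero, Set.sdiff_eq_empty]
    intro y hy
    have hy' := (smul_mk_iff _ _ _).1 hy
    obtain ⟨-, eT⟩ := hA.torus_conj_eq hx1 hxA
    refine (hA.comm_iff h8 hx).2 ?_
    rw [eT, mem_conjS, show g⁻¹ * (y * x * y⁻¹) * g =
      g⁻¹ * y * g * (g⁻¹ * x * g) * (g⁻¹ * y * g)⁻¹ by group]
    exact (Subgroup.mem_normalizer_iff.1 hy' _).1 hxA
  set T := conjS g (A i) with hT
  set SN : Set PSL(2, F) := {y | y • (g : PSL(2, F) ⧸ Subgroup.normalizer (A i : Set PSL(2, F))) = g}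
  set C : Set PSL(2, F) := {y | x * y = y * x}
  set S : Set PSL(2, F) := {a | a ∈ T ∧ a * a = 1}
  have hinv : ∀ a ∈ T, x * a * x⁻¹ = a⁻¹ := by
    intro a ha
    have := (hA.inverts hxg hxA).2 _ (mem_conjS.1 ha)
    calc x * a * x⁻¹ = g * (g⁻¹ * x * g * (g⁻¹ * a * g) * (g⁻¹ * x * g)⁻¹) * g⁻¹ := by group
      _ = g * (g⁻¹ * a * g)⁻¹ * g⁻¹ := by rw [this]
      _ = a⁻¹ := by group
  have hcomm : ∀ a ∈ T, x * a = a * x ↔ a * a = 1 := by
    intro a ha
    rw [comm_iff_conj, hinv a ha, inv_eq_iff_mul_eq_one]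
  have hint : SN ∩ C = S ∪ (x * ·) '' S := by
    ext y
    constructor
    · rintro ⟨hy, hyC⟩
      have hyg := (smul_mk_iff _ _ _).1 hy
      by_cases hyA : g⁻¹ * y * g ∈ A i
      · exact Or.inl ⟨mem_conjS.2 hyA, (hcomm y (mem_conjS.2 hyA)).1 hyC⟩
      · right
        obtain ⟨t, ht, et⟩ := hA.isTorus i
        have hd : x⁻¹ * y ∈ T := by
          rw [hT, mem_conjS, show g⁻¹ * (x⁻¹ * y) * g = (g⁻¹ * x * g)⁻¹ * (g⁻¹ * y * g) by group, et]
          rw [et] at hyg hxg hyA hxA
          exact div_mem_torus ht ((mem_normalizer_torus_iff ht).1 hyg)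
            ((mem_normalizer_torus_iff ht).1 hxg) hyA hxA
        refine ⟨x⁻¹ * y, ⟨hd, (hcomm _ hd).1 ?_⟩, mul_inv_cancel_left x y⟩
        rw [mul_inv_cancel_left, mul_assoc, ← hyC, inv_mul_cancel_left]
    · rintro (⟨ha, ha2⟩ | ⟨a, ⟨ha, ha2⟩, rfl⟩)
      · exact ⟨(smul_mk_iff _ _ _).2 (Subgroup.le_normalizer (mem_conjS.1 ha)), (hcomm y ha).2 ha2⟩
      · refine ⟨(smul_mk_iff _ _ _).2 ?_, ?_⟩
        · rw [show g⁻¹ * (x * a) * g = g⁻¹ * x * g * (g⁻¹ * a * g) by group]
          exact mul_mem hxg (Subgroup.le_normalizer (mem_conjS.1 ha))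
        · show x * (x * a) = x * a * x
          rw [mul_assoc x a x, ← (hcomm a ha).2 ha2]
  have hS : S.ncard = (i : ℕ) + 1 := by
    rw [← hA.card_sq_one h8 i]
    refine Set.ncard_congr (fun a _ => g⁻¹ * a * g) ?_
      (fun a b _ _ e => mul_left_cancel (mul_right_cancel e)) ?_
    · rintro a ⟨ha, ha2⟩
      refine ⟨mem_conjS.1 ha, ?_⟩
      rw [show g⁻¹ * a * g * (g⁻¹ * a * g) = g⁻¹ * (a * a) * g by group, ha2]
      group
    · rintro b ⟨hb, hb2⟩
      refine ⟨g * b * g⁻¹, ⟨mem_conjS.2 (by rwa [show g⁻¹ * (g * b * g⁻¹) * g = b by group]), ?_⟩,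
        by group⟩
      rw [show g * b * g⁻¹ * (g * b * g⁻¹) = g * (b * b) * g⁻¹ by group, hb2]
      group
  have hIcard : (SN ∩ C).ncard = 2 * ((i : ℕ) + 1) := by
    rw [hint, Set.ncard_union_eq, Set.ncard_image_of_injective _ (mul_right_injective x), hS]
    · ring
    · rw [Set.disjoint_left]
      rintro _ ⟨ha, -⟩ ⟨b, ⟨hb, -⟩, rfl⟩
      exact hxA (mem_conjS.1 (by simpa using T.mul_mem ha (inv_mem hb)))
  have hsplit := Set.ncard_inter_add_ncard_sdiff_eq_ncard SN C
  have hSN : SN.ncard = 2 * Nat.card (A i) := by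
    rw [← hA.card_stab i (g : PSL(2, F) ⧸ Subgroup.normalizer (A i : Set PSL(2, F))),
      ← Nat.card_coe_set_eq]
    rfl
  obtain ⟨h0, h1, -⟩ := hA.card_A_odd h8
  rcases Fin.exists_fin_two.1 ⟨i, rfl⟩ with e | e <;> subst e
  · simp only [Fin.val_zero] at hIcard
    omega
  · simp only [Fin.val_one] at hIcard
    omega

theorem card_sol_involution_odd {x : PSL(2, F)} (hx : orderOf x = 2) :
    (solSet x).ncard = Fintype.card F * (Fintype.card F + 1) := by
  classical
  have hx1 := ne_one_of_order_two hx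
  obtain ⟨g₀, hg₀⟩ := hA.exists_conj_one h8 hx
  set c₀ : PSL(2, F) ⧸ Subgroup.normalizer (A 1 : Set PSL(2, F)) := QuotientGroup.mk g₀
  let C : Set PSL(2, F) := {y | x * y = y * x}
  let P : (i : Fin 2) → (PSL(2, F) ⧸ Subgroup.normalizer (A i : Set PSL(2, F))) → Set PSL(2, F) :=
    fun i c => {y | y • c = c} \ C
  let K : Set PSL(2, F) := {y | ∃ (i : Fin 2)
    (c : PSL(2, F) ⧸ Subgroup.normalizer (A i : Set PSL(2, F))), x • c = c ∧ y ∈ P i c}
  let J : Set PSL(2, F) := {y | ∃ v, Four x v ∧ y ∈ cyc x v}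
  have hC0 : C = {y | y • c₀ = c₀} := by
    ext y
    show x * y = y * x ↔ y • c₀ = c₀
    rw [hA.comm_iff h8 hx, smul_mk_iff, (hA.torus_conj_eq hx1 hg₀).2, mem_conjS,
      show g₀⁻¹ * (y * x * y⁻¹) * g₀ = g₀⁻¹ * y * g₀ * (g₀⁻¹ * x * g₀) * (g₀⁻¹ * y * g₀)⁻¹ by group]
    exact ⟨hA.mem_normalizer hg₀ (conj_ne_one hx1), fun h => (Subgroup.mem_normalizer_iff.1 h _).1 hg₀⟩
  have hset : solSet x = C ∪ K ∪ J := by
    ext y
    show Group.IsSolvable ↥(Subgroup.closure ({x, y} : Set PSL(2, F))) ↔ _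
    rw [hA.solv_iff_odd h8 hx1]
    constructor
    · rintro (⟨p, hp, -⟩ | ⟨i, c, h1, h2⟩ | ⟨a, b, hab, hxN, hyN⟩)
      · exact absurd hp (hA.no_fixed_involution h8 hx p)
      · by_cases hy : y ∈ C
        · exact Or.inl (Or.inl hy)
        · exact Or.inl (Or.inr ⟨i, c, h1, h2, hy⟩)
      · by_cases hy : x * y = y * x
        · exact Or.inl (Or.inl hy)
        right
        have hxS : x ∈ fourSet a b := by
          rcases hA.fourN_cases h8 hab hxN with e | e | e
          · exact e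
          all_goals
            exfalso
            have h3 : x ^ 3 = 1 := by
              first | exact (hA.pow_three_cyc h8 hab e).1 | exact (hA.pow_three_cyc h8 hab.mul_right e).1
            have := orderOf_dvd_of_pow_eq_one h3
            rw [hx] at this
            omega
        have hN := Subgroup.mem_set_normalizer_iff.1 hyN
        set v := y * x * y⁻¹ with hv
        have hvS : v ∈ fourSet a b := (hN x).1 hxS
        have hwS : y * v * y⁻¹ ∈ fourSet a b := (hN v).1 hvS
        obtain ⟨xa, xb⟩ := (hA.mem_centraliser_four h8 hab).1 hxS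
        have hScomm : ∀ s ∈ fourSet a b, x * s = s * x := by
          intro s hs
          simp only [fourSet, Set.mem_insert_iff, Set.mem_singleton_iff] at hs
          rcases hs with rfl | rfl | rfl | rfl
          · simp
          · exact xa.symm
          · exact xb.symm
          · rw [← mul_assoc, ← xa, mul_assoc, ← xb, mul_assoc]
        have hne : x ≠ v := fun e => hy (comm_iff_conj.2 e.symm).symm
        have hxv : Four x v := ⟨hx, (orderOf_conj y x).trans hx, hne, hScomm v hvS⟩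
        refine ⟨v, hxv, rfl, ?_⟩
        have hv1 := ne_one_of_order_two hxv.2.1
        have hwv : v * (y * v * y⁻¹) = y * v * y⁻¹ * v := by
          rw [hv, show y * x * y⁻¹ * (y * (y * x * y⁻¹) * y⁻¹) = y * (x * (y * x * y⁻¹)) * y⁻¹ by group,
            ← hv, hxv.2.2.2]
          rw [hv]; group
        have hwmem := hA.mem_fourSet_of_comm h8 hxv (hScomm _ hwS) hwv
        simp only [fourSet, Set.mem_insert_iff, Set.mem_singleton_iff] at hwmem
        rcases hwmem with e | e | e | e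
        · exact absurd (by rwa [mul_inv_eq_one, mul_eq_left] at e) hv1
        · exact (hA.no_swap h8 hxv rfl e).elim
        · exfalso
          have : y * v * y⁻¹ = y * x * y⁻¹ := e.trans hv
          exact hne (mul_left_cancel (mul_right_cancel this)).symm
        · exact e
    · rintro ((hy | ⟨i, c, h1, h2, -⟩) | ⟨v, hv, hy⟩)
      · rw [hC0] at hy
        exact Or.inr (Or.inl ⟨1, c₀, (smul_mk_iff _ _ _).2 (Subgroup.le_normalizer hg₀), hy⟩)
      · exact Or.inr (Or.inl ⟨i, c, h1, h2⟩)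
      · exact Or.inr (Or.inr ⟨x, v, hv, hA.fourSet_subset_fourN h8 hv (by simp [fourSet]),
          cyc_subset_fourN hv hy⟩)
  have dCK : Disjoint C K :=
    Set.disjoint_left.2 fun y hy ⟨_, _, _, _, hy'⟩ => hy' hy
  have dCJ : Disjoint C J := Set.disjoint_left.2 fun y hy ⟨v, hv, h1, _⟩ =>
    hv.2.2.1 ((comm_iff_conj.1 (Eq.symm hy)).symm.trans h1)
  have dKJ : Disjoint K J := by
    rw [Set.disjoint_left]
    rintro y ⟨i, c, hc, hyc, -⟩ ⟨v, hv, hy⟩
    obtain ⟨h3, h1⟩ := hA.pow_three_cyc h8 hv hy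
    obtain ⟨g, rfl⟩ := QuotientGroup.mk_surjective c
    have hyg := (smul_mk_iff _ _ _).1 hyc
    by_cases hyA : g⁻¹ * y * g ∈ A i
    · exact (isTor_iff_cube y).1 (hA.torus_conj_eq h1 hyA).1 h3
    · have h2 := (hA.inverts hyg hyA).1
      rw [show g⁻¹ * y * g * (g⁻¹ * y * g) = g⁻¹ * (y * y) * g by group] at h2
      have hyy : y * y = 1 := by
        by_contra hne; exact conj_ne_one hne h2
      rw [pow_succ, pow_two, hyy, one_mul] at h3
      exact h1 h3
  -- the four-group part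
  have hJ : J.ncard = 2 * (Fintype.card F + 1) := by
    have e : J ≃ Σ v : {v : PSL(2, F) // Four x v}, ↥(cyc x v.1) :=
      { toFun := fun y => ⟨⟨y.1 * x * y.1⁻¹, by
          obtain ⟨v, hv, h1, -⟩ := y.2; rw [h1]; exact hv⟩, y.1, rfl, by
          obtain ⟨v, hv, h1, h2⟩ := y.2; subst h1; exact h2⟩
        invFun := fun z => ⟨z.2.1, z.1.1, z.1.2, z.2.2⟩
        left_inv := fun y => rfl
        right_inv := fun z => Sigma.subtype_ext (Subtype.ext z.2.2.1) rfl }
    have := Fintype.ofFinite {v : PSL(2, F) // Four x v}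
    rw [← Nat.card_coe_set_eq, Nat.card_congr e, Nat.card_sigma,
      Finset.sum_congr rfl fun v _ => (Nat.card_coe_set_eq _).trans (hA.card_cyc h8 v.2),
      Finset.sum_const, Finset.card_univ, ← Nat.card_eq_fintype_card, smul_eq_mul]
    have h := hA.card_four_partners h8 hx
    rw [← Nat.card_coe_set_eq, Set.coe_ofPred] at h
    omega
  -- the torus part
  have hK : K.ncard = (Fintype.card F + 1) * (Fintype.card F - 3) := by
    let Z := Σ i : Fin 2, Σ c : MulAction.fixedBy
      (PSL(2, F) ⧸ Subgroup.normalizer (A i : Set PSL(2, F))) x, ↥(P i c.1)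
    let f : Z → ↥K := fun z => ⟨z.2.2.1, z.1, z.2.1.1, z.2.1.2, z.2.2.2⟩
    have hf : Function.Bijective f := by
      constructor
      · rintro ⟨i, ⟨c, hc⟩, y, hy, hyC⟩ ⟨j, ⟨d, hd⟩, y', hy', hyC'⟩ h
        obtain rfl : y = y' := congrArg Subtype.val h
        obtain ⟨g, rfl⟩ := QuotientGroup.mk_surjective c
        obtain ⟨g', rfl⟩ := QuotientGroup.mk_surjective d
        have hxg := (smul_mk_iff _ _ _).1 hc
        have hxg' := (smul_mk_iff _ _ _).1 hd
        have hyg := (smul_mk_iff _ _ _).1 hy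
        have hyg' := (smul_mk_iff _ _ _).1 hy'
        have hc1 : x * y * x⁻¹ * y⁻¹ ≠ 1 := by
          intro e
          rw [mul_inv_eq_one, mul_inv_eq_iff_eq_mul] at e
          exact hyC e
        have m1 : g⁻¹ * (x * y * x⁻¹ * y⁻¹) * g ∈ A i := by
          have := hA.comm_mem hxg hyg
          rwa [show g⁻¹ * x * g * (g⁻¹ * y * g) * (g⁻¹ * x * g)⁻¹ * (g⁻¹ * y * g)⁻¹ =
            g⁻¹ * (x * y * x⁻¹ * y⁻¹) * g by group] at this
        have m2 : g'⁻¹ * (x * y * x⁻¹ * y⁻¹) * g' ∈ A j := by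
          have := hA.comm_mem hxg' hyg'
          rwa [show g'⁻¹ * x * g' * (g'⁻¹ * y * g') * (g'⁻¹ * x * g')⁻¹ * (g'⁻¹ * y * g')⁻¹ =
            g'⁻¹ * (x * y * x⁻¹ * y⁻¹) * g' by group] at this
        obtain rfl := hA.index_eq hc1 m1 m2
        have hcd := hA.mk_eq hc1 m1 m2
        refine Sigma.ext rfl (heq_of_eq (Sigma.ext (Subtype.ext hcd) ?_))
        exact (Subtype.heq_iff_coe_eq (fun z => by simp [hcd])).2 rfl
      · rintro ⟨y, i, c, hc, hy⟩
        exact ⟨⟨i, ⟨c, hc⟩, y, hy⟩, rfl⟩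
    rw [← Nat.card_coe_set_eq, ← Nat.card_eq_of_bijective f hf, Nat.card_sigma, Fin.sum_univ_two]
    have h0 := hA.card_fixed_odd h8 hx 0
    have h1 := hA.card_fixed_odd h8 hx 1
    simp only [Fin.val_zero, Fin.val_one, mul_zero, add_zero, mul_one] at h0 h1
    have := Fintype.ofFinite (MulAction.fixedBy
      (PSL(2, F) ⧸ Subgroup.normalizer (A 0 : Set PSL(2, F))) x)
    have := Fintype.ofFinite (MulAction.fixedBy
      (PSL(2, F) ⧸ Subgroup.normalizer (A 1 : Set PSL(2, F))) x)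
    have e0 : ∀ c : MulAction.fixedBy (PSL(2, F) ⧸ Subgroup.normalizer (A 0 : Set PSL(2, F))) x,
        Nat.card ↥(P 0 c.1) = Fintype.card F - 3 := by
      rintro ⟨c, hc⟩
      obtain ⟨g, rfl⟩ := QuotientGroup.mk_surjective c
      rw [Nat.card_coe_set_eq]
      refine (hA.card_stab_diff h8 hx ((smul_mk_iff _ _ _).1 hc)).trans (if_neg fun h => ?_)
      exact absurd (hA.index_eq hx1 h hg₀) (by decide)
    have e1 : ∀ c : MulAction.fixedBy (PSL(2, F) ⧸ Subgroup.normalizer (A 1 : Set PSL(2, F))) x,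
        Nat.card ↥(P 1 c.1) = if c.1 = c₀ then 0 else Fintype.card F - 3 := by
      rintro ⟨c, hc⟩
      obtain ⟨g, rfl⟩ := QuotientGroup.mk_surjective c
      rw [Nat.card_coe_set_eq]
      refine (hA.card_stab_diff h8 hx ((smul_mk_iff _ _ _).1 hc)).trans (if_congr ?_ rfl rfl)
      refine ⟨fun h => hA.mk_eq hx1 h hg₀, fun h => ?_⟩
      have hn : g₀⁻¹ * g ∈ Subgroup.normalizer (A 1 : Set PSL(2, F)) :=
        QuotientGroup.eq.1 (Eq.symm h)
      rw [show g⁻¹ * x * g = (g₀⁻¹ * g)⁻¹ * (g₀⁻¹ * x * g₀) * (g₀⁻¹ * g) by group]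
      exact (Subgroup.mem_normalizer_iff''.1 hn _).1 hg₀
    rw [Nat.card_sigma, Nat.card_sigma, Finset.sum_congr rfl fun c _ => e0 c,
      Finset.sum_congr rfl fun c _ => e1 c, Finset.sum_const, Finset.card_univ, smul_eq_mul,
      Finset.sum_ite, Finset.sum_const_zero, zero_add, Finset.sum_const, smul_eq_mul, ← add_mul]
    congr 1
    have hc₀ : x • c₀ = c₀ := (smul_mk_iff _ _ _).2 (Subgroup.le_normalizer hg₀)
    have hflt : (Finset.univ.filter fun c : MulAction.fixedBy
        (PSL(2, F) ⧸ Subgroup.normalizer (A 1 : Set PSL(2, F))) x => ¬ c.1 = c₀) =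
        Finset.univ.erase ⟨c₀, hc₀⟩ := by
      ext c
      simp [Subtype.ext_iff]
    rw [hflt, Finset.card_erase_of_mem (Finset.mem_univ _), Finset.card_univ,
      ← Nat.card_eq_fintype_card, ← Nat.card_eq_fintype_card]
    omega
  have hCn : C.ncard = Fintype.card F + 1 := by
    rw [hC0, ← Nat.card_coe_set_eq]
    exact (hA.card_stab 1 c₀).trans (hA.card_A_odd h8).2.1
  rw [hset, Set.ncard_union_eq (Set.disjoint_union_left.2 ⟨dCJ, dKJ⟩), Set.ncard_union_eq dCK, hJ,
    hK, hCn]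
  obtain ⟨t, ht⟩ : ∃ t, Fintype.card F = t + 3 := ⟨Fintype.card F - 3, by omega⟩
  rw [ht, Nat.add_sub_cancel]
  ring

/-- An element of order `3` permutes cyclically the involutions of any four-group it normalises. -/
theorem mem_cyc_fourInv {x v : PSL(2, F)} (hx3 : x ^ 3 = 1) (hv : v ∈ fourInv x) :
    x ∈ cyc v (x * v * x⁻¹) := by
  refine ⟨rfl, ?_⟩
  set w := x * v * x⁻¹ with hw
  set u := x * w * x⁻¹ with hu
  have hv' : Four v w := hv
  have hxu : x * u * x⁻¹ = v := by
    rw [hu, hw]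
    calc x * (x * (x * v * x⁻¹) * x⁻¹) * x⁻¹ = x ^ 3 * v * (x ^ 3)⁻¹ := by
          rw [pow_succ, pow_two]; group
      _ = v := by rw [hx3]; group
  have h1 : Four w u := hv'.conj x
  have h2 : Four u v := by
    have := h1.conj x
    rwa [hxu] at this
  have hm := hA.mem_fourSet_of_comm h8 hv' h2.2.2.2.symm h1.2.2.2
  simp only [fourSet, Set.mem_insert_iff, Set.mem_singleton_iff] at hm
  rcases hm with e | e | e | e
  · exact absurd e (ne_one_of_order_two h1.2.1)
  · exact absurd e h2.2.2.1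
  · exact absurd e h1.2.2.1.symm
  · exact e

theorem card_fourInv {x : PSL(2, F)} (hx : orderOf x = 3) :
    (fourInv x).ncard = Fintype.card F := by
  classical
  have hconst : ∀ y : PSL(2, F), orderOf y = 3 → (fourInv y).ncard = (fourInv (u (1 : F))).ncard := by
    intro y hy
    obtain ⟨g, rfl | rfl⟩ := conj_order_three (by omega) hy
    · exact ncard_fourInv_conj g _
    · rw [ncard_fourInv_conj, fourInv_inv]
  let S := {v : PSL(2, F) // orderOf v = 2}
  let e : (Σ y : {y : PSL(2, F) // orderOf y = 3}, ↥(fourInv y.1)) ≃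
      Σ v : S, Σ w : {w : PSL(2, F) // Four v.1 w}, ↥(cyc v.1 w.1) :=
    { toFun := fun z => ⟨⟨z.2.1, z.2.2.1⟩, ⟨z.1.1 * z.2.1 * z.1.1⁻¹, z.2.2⟩, z.1.1,
        hA.mem_cyc_fourInv h8 ((congrArg (z.1.1 ^ ·) z.1.2).symm.trans (pow_orderOf_eq_one z.1.1)) z.2.2⟩
      invFun := fun z => ⟨⟨z.2.2.1, by
          have : Fact (Nat.Prime 3) := ⟨Nat.prime_three⟩
          obtain ⟨a, b⟩ := hA.pow_three_cyc h8 z.2.1.2 z.2.2.2
          exact orderOf_eq_prime a b⟩, z.1.1, by
          show Four _ _; rw [z.2.2.2.1]; exact z.2.1.2⟩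
      left_inv := fun z => rfl
      right_inv := fun ⟨v, w, y⟩ => by
        obtain ⟨w, hw⟩ := w
        obtain ⟨y, hy⟩ := y
        obtain rfl : y * v.1 * y⁻¹ = w := hy.1
        rfl }
  have := Fintype.ofFinite {y : PSL(2, F) // orderOf y = 3}
  have := Fintype.ofFinite S
  have h := Nat.card_congr e
  have hin : ∀ v : S, Nat.card (Σ w : {w : PSL(2, F) // Four v.1 w}, ↥(cyc v.1 w.1)) =
      2 * (Fintype.card F + 1) := by
    intro v
    have := Fintype.ofFinite {w : PSL(2, F) // Four v.1 w}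
    rw [Nat.card_sigma, Finset.sum_congr rfl fun w _ => (Nat.card_coe_set_eq _).trans
      (hA.card_cyc h8 w.2), Finset.sum_const, Finset.card_univ, ← Nat.card_eq_fintype_card, smul_eq_mul]
    have h := hA.card_four_partners h8 v.2
    rw [← Nat.card_coe_set_eq, Set.coe_ofPred] at h
    omega
  rw [Nat.card_sigma, Nat.card_sigma, Finset.sum_congr rfl fun v _ => hin v,
    Finset.sum_congr rfl fun y _ => (Nat.card_coe_set_eq _).trans
      ((hconst y.1 y.2).trans (hconst x hx).symm), Finset.sum_const, Finset.sum_const,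
    Finset.card_univ, Finset.card_univ, ← Nat.card_eq_fintype_card, ← Nat.card_eq_fintype_card,
    card_order_three, smul_eq_mul, smul_eq_mul] at h
  have hI := hA.two_mul_card_involutions h8
  have h2 := Fintype.one_lt_card (α := F)
  refine Nat.eq_of_mul_eq_mul_left (Nat.mul_pos (show 0 < Fintype.card F + 1 by omega)
    (show 0 < Fintype.card F - 1 by omega)) ?_
  linear_combination h + (Fintype.card F + 1) * hI

theorem two_mul_card_sol_order_three {x : PSL(2, F)} (hx : orderOf x = 3) :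
    2 * (solSet x).ncard = Fintype.card F * (Fintype.card F + 5) := by
  classical
  obtain ⟨hx1, hxt⟩ := not_isTor_of_order_three hx
  have hx3 : x ^ 3 = 1 := hx ▸ pow_orderOf_eq_one x
  have hx2 : x * x ≠ 1 := fun e => by
    rw [pow_succ, pow_two, e, one_mul] at hx3; exact hx1 hx3
  obtain ⟨p, hp, huniq⟩ := existsUnique_fixed hxt hx1
  set B := (MulAction.stabilizer PSL(2, F) p : Set PSL(2, F))
  have hxpow : ∀ n : ℕ, (x ^ n) • p = p := by
    intro n
    induction n with
    | zero => rw [pow_zero, one_smul]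
    | succ n ih => rw [pow_succ, mul_smul, hp, ih]
  have hno : ∀ v, orderOf v = 2 → v • p ≠ p := fun v hv => hA.no_fixed_involution h8 hv p
  have hmem : ∀ y, y ∈ solSet x ↔ y ∈ B ∨ ∃ a b, Four a b ∧ x ∈ cyc a b ∧ y ∈ fourN a b := by
    intro y
    show Group.IsSolvable ↥(Subgroup.closure ({x, y} : Set PSL(2, F))) ↔ _
    rw [hA.solv_iff_odd h8 hx1]
    constructor
    · rintro (⟨r, hr, hy⟩ | ⟨i, c, h1, -⟩ | ⟨a, b, hab, hxN, hy⟩)
      · exact Or.inl (show y • p = p by rw [← huniq r hr]; exact hy)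
      · exfalso
        obtain ⟨g, rfl⟩ := QuotientGroup.mk_surjective c
        have hxg := (smul_mk_iff _ _ _).1 h1
        by_cases hxA : g⁻¹ * x * g ∈ A i
        · exact hxt (hA.torus_conj_eq hx1 hxA).1
        · have := (hA.inverts hxg hxA).1
          rw [show g⁻¹ * x * g * (g⁻¹ * x * g) = g⁻¹ * (x * x) * g by group] at this
          exact conj_ne_one hx2 this
      · right
        rcases hA.fourN_cases h8 hab hxN with e | e | e
        · exfalso
          apply hx2
          simp only [fourSet, Set.mem_insert_iff, Set.mem_singleton_iff] at e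
          rcases e with rfl | rfl | rfl | rfl
          · exact absurd rfl hx1
          · exact mul_self_of_order_two hab.1
          · exact mul_self_of_order_two hab.2.1
          · exact mul_self_of_order_two hab.mul_right.2.1
        · exact ⟨a, b, hab, e, hy⟩
        · exact ⟨a, a * b, hab.mul_right, e, by rwa [fourN, fourSet_mul_right hab]⟩
    · rintro (hy | ⟨a, b, hab, hxc, hy⟩)
      · exact Or.inl ⟨p, hp, hy⟩
      · exact Or.inr (Or.inr ⟨a, b, hab, cyc_subset_fourN hab hxc, hy⟩)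
  let f : ↥(fourInv x) × Fin 3 → ↥(solSet x \ B) := fun z => ⟨z.1.1 * x ^ (z.2 : ℕ),
    (hmem _).2 (Or.inr ⟨z.1.1, x * z.1.1 * x⁻¹, z.1.2, hA.mem_cyc_fourInv h8 hx3 z.1.2,
      mul_mem (hA.fourSet_subset_fourN h8 z.1.2 (by simp [fourSet]))
        (pow_mem (cyc_subset_fourN z.1.2 (hA.mem_cyc_fourInv h8 hx3 z.1.2)) _)⟩),
    fun h => hno _ z.1.2.1 (by
      have h' : (z.1.1 * x ^ (z.2 : ℕ)) • p = p := h
      rwa [mul_smul, hxpow] at h')⟩
  have hf : Function.Bijective f := by
    constructor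
    · rintro ⟨⟨v, hv⟩, e⟩ ⟨⟨v', hv'⟩, e'⟩ h
      have h' : v * x ^ (e : ℕ) = v' * x ^ (e' : ℕ) := congrArg Subtype.val h
      have hv2 := mul_self_of_order_two hv.1
      have hv2' := mul_self_of_order_two hv'.1
      set k := v * v' with hk
      have hk' : k = x ^ ((e : ℕ) + 2 * (e' : ℕ)) := by
        have hee : x ^ (2 * (e' : ℕ)) * x ^ (e' : ℕ) = 1 := by
          rw [← pow_add, show 2 * (e' : ℕ) + (e' : ℕ) = 3 * (e' : ℕ) by ring, pow_mul, hx3, one_pow]
        have he2 : x ^ (e' : ℕ) * x ^ (2 * (e' : ℕ)) = 1 := by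
          rw [← pow_add, show (e' : ℕ) + 2 * (e' : ℕ) = 3 * (e' : ℕ) by ring, pow_mul, hx3, one_pow]
        have : v' * v * x ^ (e : ℕ) = x ^ (e' : ℕ) := by
          rw [mul_assoc, h', ← mul_assoc, hv2', one_mul]
        have e3 : v * v' * x ^ (e' : ℕ) = x ^ (e : ℕ) := by
          rw [← this, ← mul_assoc, show v * v' * (v' * v) = 1 by
            rw [mul_assoc, ← mul_assoc v', hv2', one_mul, hv2], one_mul]
        rw [hk, pow_add, ← e3, mul_assoc, he2, mul_one]
      by_cases hk1 : k = 1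
      · obtain rfl : v = v' := (eq_inv_of_mul_eq_one_left hk1).trans (inv_eq_self_of_sq hv2')
        have he : x ^ (e : ℕ) = x ^ (e' : ℕ) := mul_left_cancel h'
        have := pow_injOn_Iio_orderOf (by rw [Set.mem_Iio, hx]; exact e.2)
          (by rw [Set.mem_Iio, hx]; exact e'.2) he
        obtain rfl := Fin.ext this
        rfl
      · exfalso
        have hkt : ¬ IsTor k := fun t => (isTor_iff_cube k).1 t (by
          rw [hk', ← pow_mul, mul_comm, pow_mul, hx3, one_pow])
        have hkp : k • p = p := hk' ▸ hxpow _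
        obtain ⟨r, hr, hru⟩ := existsUnique_fixed hkt hk1
        have hkv : k • (v • p) = v • p := by
          have hvk : v * k * v = k⁻¹ := by
            rw [hk, _root_.mul_inv_rev, inv_eq_self_of_sq hv2, inv_eq_self_of_sq hv2', ← mul_assoc v v v',
              hv2, one_mul]
          have hkinv : k⁻¹ • p = p := inv_smul_eq_iff.2 hkp.symm
          rw [← mul_smul, show k * v = v * k⁻¹ by
            rw [← hvk, ← mul_assoc, ← mul_assoc, hv2, one_mul], mul_smul, hkinv]
        exact hno v hv.1 ((hru _ hkv).trans (hru _ hkp).symm)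
    · rintro ⟨y, hy, hyB⟩
      obtain hy' | ⟨a, b, hab, hxc, hyN⟩ := (hmem y).1 hy
      · exact absurd hy' hyB
      have haI : a ∈ fourInv x := show Four _ _ by rw [hxc.1]; exact hab
      have hbI : b ∈ fourInv x := by
        show Four _ _
        rw [hxc.2, hab.2.2.2]
        exact hab.symm.mul_right
      have hxab : x * (a * b) * x⁻¹ = a := by
        rw [show x * (a * b) * x⁻¹ = (x * a * x⁻¹) * (x * b * x⁻¹) by group, hxc.1, hxc.2, ← mul_assoc,
          ← hab.2.2.2, mul_assoc, mul_self_of_order_two hab.2.1, mul_one]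
      have habI : a * b ∈ fourInv x := show Four _ _ by rw [hxab]; exact hab.mul_right.symm
      have hInv : ∀ z ∈ fourSet a b, z ≠ 1 → z ∈ fourInv x := by
        intro z hz hz1
        simp only [fourSet, Set.mem_insert_iff, Set.mem_singleton_iff] at hz
        rcases hz with rfl | rfl | rfl | rfl
        exacts [absurd rfl hz1, haI, hbI, habI]
      have fin : ∀ (n : Fin 3) z, z ∈ fourSet a b → y = z * x ^ (n : ℕ) →
          ∃ w, f w = ⟨y, hy, hyB⟩ := by
        intro n z hz hyz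
        refine ⟨⟨⟨z, hInv z hz fun e => hyB ?_⟩, n⟩, Subtype.ext hyz.symm⟩
        show y • p = p
        rw [hyz, e, one_mul, hxpow]
      have hxb : x⁻¹ * b * x = a := by rw [← hxc.1]; group
      have hxa : x⁻¹ * a * x = a * b := by
        conv_lhs => rw [← hxab]
        group
      rcases hA.fourN_cases h8 hab hyN with e | e | e
      · exact fin 0 y e (by simp)
      · obtain ⟨y1, y2⟩ := e
        refine fin 1 (y * x⁻¹) ((hA.mem_centraliser_four h8 hab).2 ⟨?_, ?_⟩) (by simp)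
        · refine (comm_iff_conj.2 ?_).symm
          rw [show y * x⁻¹ * a * (y * x⁻¹)⁻¹ = y * (x⁻¹ * a * x) * y⁻¹ by group, hxa,
            show y * (a * b) * y⁻¹ = (y * a * y⁻¹) * (y * b * y⁻¹) by group, y1, y2, ← mul_assoc,
            ← hab.2.2.2, mul_assoc, mul_self_of_order_two hab.2.1, mul_one]
        · refine (comm_iff_conj.2 ?_).symm
          rw [show y * x⁻¹ * b * (y * x⁻¹)⁻¹ = y * (x⁻¹ * b * x) * y⁻¹ by group, hxb, y1]
      · obtain ⟨y1, y2⟩ := e
        have haa := mul_self_of_order_two hab.1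
        have y2' : y * (a * b) * y⁻¹ = b := by rw [y2, ← mul_assoc, haa, one_mul]
        have y3 : y * b * y⁻¹ = a := by
          rw [show y * b * y⁻¹ = (y * a * y⁻¹)⁻¹ * (y * (a * b) * y⁻¹) by group, y1, y2',
            inv_eq_self_of_sq (mul_self_of_order_two hab.mul_right.2.1), mul_assoc,
            mul_self_of_order_two hab.2.1, mul_one]
        refine fin 2 (y * x) ((hA.mem_centraliser_four h8 hab).2 ⟨?_, ?_⟩) ?_
        · refine (comm_iff_conj.2 ?_).symm
          rw [show y * x * a * (y * x)⁻¹ = y * (x * a * x⁻¹) * y⁻¹ by group, hxc.1, y3]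
        · refine (comm_iff_conj.2 ?_).symm
          rw [show y * x * b * (y * x)⁻¹ = y * (x * b * x⁻¹) * y⁻¹ by group, hxc.2, y2']
        · show y = y * x * x ^ 2
          rw [mul_assoc, ← pow_succ', hx3, mul_one]
  have hsub : B ⊆ solSet x := fun y hy => (hmem y).2 (Or.inl hy)
  have hB : 2 * B.ncard = Fintype.card F * (Fintype.card F - 1) := by
    rw [← Nat.card_coe_set_eq]
    have := card_point_stab p
    rw [(hA.card_A_odd h8).2.2] at this
    exact this
  rw [← Set.ncard_sdiff_add_ncard_of_subset hsub, ← Nat.card_coe_set_eq,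
    ← Nat.card_eq_of_bijective f hf, Nat.card_prod, Nat.card_coe_set_eq, hA.card_fourInv h8 hx,
    Nat.card_fin, mul_add, hB]
  obtain ⟨t, ht⟩ : ∃ t, Fintype.card F = t + 1 := ⟨Fintype.card F - 1, by omega⟩
  rw [ht, Nat.add_sub_cancel]
  ring

end Reps

end CfsgLib.PSL2Solv
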