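import Cfsg.Agent.PSL2Solv.Basic

/-!
# Points and torus normalisers of a semisimple element, any parity
-/

set_option autoImplicit false
set_option linter.unusedSectionVars false

namespace CfsgLib.PSL2Solv

open Matrix CfsgLib.SL2Trace CfsgLib.DicksonPSL2
open scoped MatrixGroups

variable {F : Type*} [Field F] [Fintype F]

/-- Commutators inside a point stabiliser are unipotent. -/
theorem not_isTor_comm_fix {x a : PSL(2, F)} {p : Pt F} (hp : x • p = p) (ha : a • p = p) :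
    ¬ IsTor (x * a * x⁻¹ * a⁻¹) := by
  intro t
  obtain ⟨k, hk⟩ := exists_smul_base p
  have b1 := conj_smul_fix (k := k⁻¹) hp
  have b2 := conj_smul_fix (k := k⁻¹) ha
  rw [← hk, inv_smul_smul, smul_base_iff] at b1 b2
  have t' := (isTor_conj_iff k⁻¹ _).2 t
  rw [show k⁻¹ * (x * a * x⁻¹ * a⁻¹) * k⁻¹⁻¹ = (k⁻¹ * x * k⁻¹⁻¹) * (k⁻¹ * a * k⁻¹⁻¹) *
    (k⁻¹ * x * k⁻¹⁻¹)⁻¹ * (k⁻¹ * a * k⁻¹⁻¹)⁻¹ by group] at t'
  refine chi_ne_one_of_isTor (mul_mem (mul_mem (mul_mem b1 b2) (inv_mem b1)) (inv_mem b2)) t' ?_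
  have hinvchi : ∀ z ∈ BP (F := F), chi z * chi z⁻¹ = 1 := fun z hz => by
    rw [← chi_mul z (inv_mem hz), mul_inv_cancel, chi_one]
  rw [chi_mul _ (inv_mem b2), chi_mul _ (inv_mem b1), chi_mul _ b2]
  linear_combination (chi (k⁻¹ * a * k⁻¹⁻¹) * chi (k⁻¹ * a * k⁻¹⁻¹)⁻¹) * hinvchi _ b1 +
    hinvchi _ b2

theorem conj_ne_one {x g : PSL(2, F)} (hx : x ≠ 1) : g⁻¹ * x * g ≠ 1 := fun e => hx (by
  rw [mul_assoc, inv_mul_eq_one] at e; exact mul_eq_right.1 e.symm)

theorem isTor_conj_iff' (g x : PSL(2, F)) : IsTor (g⁻¹ * x * g) ↔ IsTor x := by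
  rw [show g⁻¹ * x * g = g⁻¹ * x * g⁻¹⁻¹ by group, isTor_conj_iff]

theorem inv_eq_self_of_sq {a : PSL(2, F)} (h : a * a = 1) : a⁻¹ = a :=
  inv_eq_of_mul_eq_one_right h

namespace Reps

variable {A : Fin 2 → Subgroup PSL(2, F)} (hA : Reps A)
include hA

theorem torus_conj_eq {i : Fin 2} {x g : PSL(2, F)} (hx : x ≠ 1) (h : g⁻¹ * x * g ∈ A i) :
    IsTor x ∧ torus x = conjS g (A i) := by
  obtain ⟨ht, e⟩ := hA.torus_eq h (conj_ne_one hx)
  refine ⟨(isTor_conj_iff' g x).1 ht, ?_⟩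
  rw [← e, ← torus_conj]; congr 1; group

/-- An element with `x * x ≠ 1` fixes at most the coset of its torus. -/
theorem coset_eq {i j : Fin 2} {x g : PSL(2, F)} (hx : x ≠ 1) (hxx : x * x ≠ 1)
    (h : g⁻¹ * x * g ∈ A i) {c : PSL(2, F) ⧸ Subgroup.normalizer (A j : Set PSL(2, F))}
    (hc : x • c = c) {y : PSL(2, F)} (hy : y • c = c) :
    y • (g : PSL(2, F) ⧸ Subgroup.normalizer (A i : Set PSL(2, F))) = g := by
  obtain ⟨g', rfl⟩ := QuotientGroup.mk_surjective c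
  have hmem : g'⁻¹ * x * g' ∈ A j := by
    by_contra hn
    have := (hA.inverts ((smul_mk_iff _ _ _).1 hc) hn).1
    rw [show g'⁻¹ * x * g' * (g'⁻¹ * x * g') = g'⁻¹ * (x * x) * g' by group] at this
    exact conj_ne_one hxx this
  obtain rfl := hA.index_eq hx h hmem
  rw [hA.mk_eq hx h hmem]
  exact hy

/-- A non-split element fixes no point. -/
theorem no_fixed {x g : PSL(2, F)} (hx : x ≠ 1) (h : g⁻¹ * x * g ∈ A 1) (p : Pt F) : x • p ≠ p := by
  intro hp
  obtain ⟨ht, e⟩ := hA.torus_conj_eq hx h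
  have := card_torus_of_fixed ht hp
  rw [e, card_conjS, hA.card₁] at this
  omega

theorem exists_fixed_of_split (hq : 4 ≤ Fintype.card F) {x g : PSL(2, F)}
    (h : g⁻¹ * x * g ∈ A 0) : ∃ p : Pt F, x • p = p := by
  obtain ⟨x₀, hx₀, hB, hc₀⟩ := exists_torus_minus F hq
  obtain ⟨j, k, hjk⟩ := hA.cover x₀ hx₀
  obtain ⟨-, e₁⟩ := hA.torus_conj_eq (ne_one_of_isTor hx₀) hjk
  have hj : j = 0 := by
    rcases Fin.exists_fin_two.1 ⟨j, rfl⟩ with e | e
    · exact e
    · exfalso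
      subst e
      rw [e₁, card_conjS, hA.card₁] at hc₀
      omega
  subst hj
  refine ⟨(g * k⁻¹) • base, ?_⟩
  have hmem : (g * k⁻¹)⁻¹ * x * (g * k⁻¹) ∈ torus x₀ := by
    rw [e₁, mem_conjS]
    simpa [mul_assoc] using h
  have hb := (smul_base_iff _).2 (torus_le_BP hx₀ hB hmem)
  have := conj_smul_fix (k := g * k⁻¹) hb
  rwa [show g * k⁻¹ * ((g * k⁻¹)⁻¹ * x * (g * k⁻¹)) * (g * k⁻¹)⁻¹ = x by group] at this

/-- The size of the union of the two point stabilisers and the torus normaliser of `x`. -/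
theorem card_split_union (hq : 4 ≤ Fintype.card F) {x g : PSL(2, F)} (hx : x ≠ 1)
    (hxx : x * x ≠ 1) (h : g⁻¹ * x * g ∈ A 0) :
    Nat.gcd 2 (Fintype.card F - 1) * ({y | ∃ p : Pt F, x • p = p ∧ y • p = p} ∪
      (MulAction.stabilizer PSL(2, F)
        (g : PSL(2, F) ⧸ Subgroup.normalizer (A 0 : Set PSL(2, F))) : Set PSL(2, F))).ncard =
      2 * (Fintype.card F * (Fintype.card F - 1)) := by
  classical
  set T := conjS g (A 0) with hT
  have hxT : x ∈ T := mem_conjS.2 h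
  obtain ⟨htx, eT⟩ := hA.torus_conj_eq hx h
  obtain ⟨p, hp⟩ := hA.exists_fixed_of_split hq h
  obtain ⟨l, rfl⟩ := exists_smul_base p
  have hxB : l⁻¹ * x * l⁻¹⁻¹ ∈ BP (F := F) := by
    have := conj_smul_fix (k := l⁻¹) hp
    rwa [inv_smul_smul, smul_base_iff] at this
  obtain ⟨r, hr, hrfix, hronly⟩ := exists_other_fixed hxB ((isTor_conj_iff _ _).2 htx)
  set p := l • (base : Pt F)
  set p' := l • r
  have hp' : x • p' = p' := by
    have := conj_smul_fix (k := l) hrfix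
    rwa [show l * (l⁻¹ * x * l⁻¹⁻¹) * l⁻¹ = x by group] at this
  have honly : ∀ s : Pt F, x • s = s → s = p ∨ s = p' := by
    intro s hs
    rcases hronly _ (conj_smul_fix (k := l⁻¹) hs) with e | e
    · left; show s = l • base; rw [← e, smul_inv_smul]
    · right; show s = l • r; rw [← e, smul_inv_smul]
  have hpp : p ≠ p' := fun e => hr (smul_left_cancel l e).symm
  have hTfix : ∀ s : Pt F, x • s = s → ∀ a ∈ T, a • s = s := by
    intro s hs a ha
    obtain ⟨l', rfl⟩ := exists_smul_base s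
    have h1 := conj_smul_fix (k := l'⁻¹) hs
    rw [inv_smul_smul, smul_base_iff] at h1
    have h2 : l'⁻¹ * a * l'⁻¹⁻¹ ∈ torus (l'⁻¹ * x * l'⁻¹⁻¹) := by
      rw [conj_mem_torus_iff, eT]; exact ha
    have := conj_smul_fix (k := l') ((smul_base_iff _).2 (torus_le_BP ((isTor_conj_iff _ _).2 htx) h1 h2))
    rwa [show l' * (l'⁻¹ * a * l'⁻¹⁻¹) * l'⁻¹ = a by group] at this
  set c : PSL(2, F) ⧸ Subgroup.normalizer (A 0 : Set PSL(2, F)) := QuotientGroup.mk g
  set SI := (MulAction.stabilizer PSL(2, F) p : Set PSL(2, F))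
  set SO := (MulAction.stabilizer PSL(2, F) p' : Set PSL(2, F))
  set SN := (MulAction.stabilizer PSL(2, F) c : Set PSL(2, F))
  have hfix : {y : PSL(2, F) | ∃ s : Pt F, x • s = s ∧ y • s = s} = SI ∪ SO := by
    ext y
    constructor
    · rintro ⟨s, hs, hy⟩
      rcases honly s hs with rfl | rfl
      · exact Or.inl hy
      · exact Or.inr hy
    · rintro (hy | hy)
      · exact ⟨p, hp, hy⟩
      · exact ⟨p', hp', hy⟩
  -- `y` normalising `T` and commuting with `x` lies in `T`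
  have hcommT : ∀ y, x * y = y * x → y ∈ T := by
    intro y e
    rw [hT, ← eT]
    have hyx : y * x * y⁻¹ = x := by rw [← e, mul_inv_cancel_right]
    rcases mem_or_inverts (n := y) htx (by rw [hyx]; exact self_mem_torus x) with h' | ⟨-, hi⟩
    · exact h'
    · exfalso
      have := hi x (self_mem_torus x)
      rw [hyx] at this
      exact hxx (by nth_rewrite 1 [this]; exact inv_mul_cancel x)
  have hnotN : ∀ y, y • c = c → ∀ s : Pt F, x • s = s → y • s = s → y ∈ T := by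
    intro y hy s hs hys
    by_contra hyT
    rw [smul_mk_iff] at hy
    have hy2 : g⁻¹ * y * g ∉ A 0 := fun e => hyT (mem_conjS.2 e)
    obtain ⟨-, hinv⟩ := hA.inverts hy hy2
    have hyx : y * x * y⁻¹ = x⁻¹ := by
      have := hinv _ h
      calc y * x * y⁻¹ = g * (g⁻¹ * y * g * (g⁻¹ * x * g) * (g⁻¹ * y * g)⁻¹) * g⁻¹ := by group
        _ = g * (g⁻¹ * x * g)⁻¹ * g⁻¹ := by rw [this]
        _ = x⁻¹ := by group
    have hcomm := not_isTor_comm_fix hys hs
    rw [hyx] at hcomm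
    have hne : x⁻¹ * x⁻¹ ≠ 1 := fun e => hxx (by
      rw [← _root_.inv_inj, _root_.mul_inv_rev, e, inv_one])
    refine hcomm ((isTor_conj_iff' g _).1 (hA.torus_eq (i := 0) ?_ (conj_ne_one hne)).1)
    rw [← mem_conjS]
    exact mul_mem (inv_mem hxT) (inv_mem hxT)
  have hTN : (T : Set PSL(2, F)) ⊆ SN := fun a ha =>
    (smul_mk_iff _ _ _).2 (Subgroup.le_normalizer (mem_conjS.1 ha))
  have hI : (SI ∪ SO) ∩ SN = (T : Set PSL(2, F)) := by
    ext y
    constructor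
    · rintro ⟨hy | hy, hN⟩
      · exact hnotN y hN p hp hy
      · exact hnotN y hN p' hp' hy
    · intro ha
      exact ⟨Or.inl (hTfix p hp y ha), hTN ha⟩
  have hIO : SI ∩ SO = (T : Set PSL(2, F)) := by
    ext y
    refine ⟨fun hy => ?_, fun ha => ⟨hTfix p hp y ha, hTfix p' hp' y ha⟩⟩
    obtain ⟨hy1, hy2⟩ := hy
    show y ∈ T
    refine hcommT y ?_
    by_contra hne
    have hc1 : x * y * x⁻¹ * y⁻¹ ≠ 1 := fun e => hne (by
      rw [mul_inv_eq_one, mul_inv_eq_iff_eq_mul] at e; exact e)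
    have h1 : (x * y * x⁻¹ * y⁻¹) • p = p := by
      rw [mul_smul, mul_smul, mul_smul, inv_smul_eq_iff.2 (Eq.symm hy1), inv_smul_eq_iff.2 hp.symm,
        show y • p = p from hy1, hp]
    have h2 : (x * y * x⁻¹ * y⁻¹) • p' = p' := by
      rw [mul_smul, mul_smul, mul_smul, inv_smul_eq_iff.2 (Eq.symm hy2), inv_smul_eq_iff.2 hp'.symm,
        show y • p' = p' from hy2, hp']
    exact hpp ((existsUnique_fixed (not_isTor_comm_fix hp hy1) hc1).unique h1 h2)
  rw [hfix]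
  show _ * (SI ∪ SO ∪ SN).ncard = _
  have e1 := Set.ncard_union_add_ncard_inter SI SO
  have e2 := Set.ncard_union_add_ncard_inter (SI ∪ SO) SN
  rw [hIO] at e1
  rw [hI] at e2
  have c1 : Nat.gcd 2 (Fintype.card F - 1) * SI.ncard = Fintype.card F * (Fintype.card F - 1) := by
    rw [← Nat.card_coe_set_eq]; exact card_point_stab p
  have c2 : Nat.gcd 2 (Fintype.card F - 1) * SO.ncard = Fintype.card F * (Fintype.card F - 1) := by
    rw [← Nat.card_coe_set_eq]; exact card_point_stab p'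
  have c3 : SN.ncard = 2 * Nat.card (A 0) := by
    rw [← Nat.card_coe_set_eq]; exact hA.card_stab 0 c
  have c4 : (T : Set PSL(2, F)).ncard = Nat.card (A 0) := by
    rw [← Nat.card_coe_set_eq]; exact card_conjS g (A 0)
  rw [c3, c4] at e2
  rw [c4] at e1
  have : (SI ∪ SO ∪ SN).ncard = SI.ncard + SO.ncard := by omega
  rw [this, mul_add, c1, c2, two_mul]

end Reps

end CfsgLib.PSL2Solv
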